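import Groth.Agent.Lib.WeakNormal.AbsChar
import Groth.Agent.H75.RedSub
import Groth.Agent.S7420
import Mathlib.AlgebraicGeometry.Morphisms.IsIso
import Mathlib.AlgebraicGeometry.RelativeGluing

/-!
The absolute weak normalization of a scheme.
-/

universe u

open CategoryTheory CategoryTheory.Limits AlgebraicGeometry

namespace Groth.Agent.Lib.WeakNormal.AbsScheme

variable {X Y : Scheme.{u}}

instance isReduced_nilradical_subscheme (X : Scheme.{u}) :
    AlgebraicGeometry.IsReduced X.nilradical.subscheme := by
  rw [← Scheme.IdealSheafData.vanishingIdeal_top]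
  exact H75.RedSub.isReduced_vanishingIdeal _

theorem isUnivHomeo_reduced (X : Scheme.{u}) :
    FlatMor.IsUnivHomeo X.nilradical.subschemeι := by
  have : Surjective X.nilradical.subschemeι := ⟨fun x => by
    have h : Set.range X.nilradical.subschemeι = Set.univ := by
      rw [Scheme.IdealSheafData.range_subschemeι, Scheme.support_nilradical]
      rfl
    exact Set.range_eq_univ.mp h x⟩
  exact UnivHomeo.Basic.of_isClosedImmersion_surjective _

/-- A reduced universally homeomorphic scheme over an absolutely weakly normal one is trivial. -/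
theorem isIso_of_isAWN (hX : HTop.IsAWN X) (π : Y ⟶ X) (hπ : FlatMor.IsUnivHomeo π)
    [AlgebraicGeometry.IsReduced Y] : IsIso π := by
  have := UnivHomeo.Basic.isAffineHom hπ
  change MorphismProperty.isomorphisms Scheme π
  refine HasAffineProperty.of_iSup_eq_top (P := MorphismProperty.isomorphisms Scheme)
    (fun U : X.affineOpens => U) (iSup_affineOpens_eq_top X) fun U => ?_
  have hV : IsAffineOpen (π ⁻¹ᵁ U.1) := U.2.preimage π
  have : IsAffine (π ⁻¹ᵁ U.1).toScheme := hV
  have : IsAffine U.1.toScheme := U.2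
  have hres : FlatMor.IsUnivHomeo (π ∣_ U.1) :=
    MorphismProperty.of_isPullback (isPullback_morphismRestrict π U.1).flip hπ
  refine ⟨inferInstance, ?_⟩
  have hA : HTop.IsAWNRing Γ(U.1.toScheme, ⊤) :=
    AbsChar.isAWNRing_of_ringEquiv U.1.topIso.commRingCatIsoToRingEquiv.symm
      ((Groth.Agent.S7420.result X).2.mp hX U)
  have hsp : FlatMor.IsUnivHomeo (Spec.map (π ∣_ U.1).appTop) :=
    ((FlatMor.IsUnivHomeo.{u}).arrow_mk_iso_iff (arrowIsoSpecΓOfIsAffine (π ∣_ U.1))).mp hres
  exact (ConcreteCategory.isIso_iff_bijective _).mpr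
    (AbsChar.bijective_of_isAWNRing hA (π ∣_ U.1).appTop.hom hsp)

theorem hom_ext_of_isReduced {W : Scheme.{u}} [AlgebraicGeometry.IsReduced W] {π : Y ⟶ X}
    (hπ : FlatMor.IsUnivHomeo π) {h₁ h₂ : W ⟶ Y} (e : h₁ ≫ π = h₂ ≫ π) : h₁ = h₂ := by
  have := UnivHomeo.Basic.isAffineHom hπ
  have : Surjective (pullback.diagonal π) :=
    (UniversallyInjective.iff_diagonal π).mp (UnivHomeo.Basic.universallyInjective hπ)
  have : IsClosedImmersion (pullback.diagonal π) := IsSeparated.isClosedImmersion_diagonal
  let t : W ⟶ pullback π π := pullback.lift h₁ h₂ e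
  have : IsClosedImmersion (pullback.fst t (pullback.diagonal π)) :=
    MorphismProperty.pullback_fst _ _ inferInstance
  have : Surjective (pullback.fst t (pullback.diagonal π)) :=
    MorphismProperty.pullback_fst _ _ inferInstance
  have : IsIso (pullback.fst t (pullback.diagonal π)) := isIso_of_isClosedImmersion_of_surjective _
  have h := pullback.condition (f := t) (g := pullback.diagonal π)
  rw [← IsIso.eq_inv_comp] at h
  calc h₁ = t ≫ pullback.fst π π := (pullback.lift_fst _ _ _).symm
    _ = t ≫ pullback.snd π π := by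
      rw [h, Category.assoc, Category.assoc, Category.assoc, Category.assoc,
        pullback.diagonal_fst, pullback.diagonal_snd]
    _ = h₂ := pullback.lift_snd _ _ _

theorem isReduced_of_isAWN (hX : HTop.IsAWN X) : AlgebraicGeometry.IsReduced X :=
  Seminormal.Basic.isReduced_of_isSeminormal fun x => by
    obtain ⟨U, hx, hU⟩ := hX x
    exact ⟨U, hx, hU.1⟩

/-- A universally homeomorphic absolutely weakly normal scheme over `X` is its absolute weak
normalization. -/
theorem isAWNormalization_of_isAWN {W : Scheme.{u}} (ν : W ⟶ X) (hν : FlatMor.IsUnivHomeo ν)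
    (hW : HTop.IsAWN W) : HTop.IsAWNormalization ν := by
  have := isReduced_of_isAWN hW
  refine ⟨hν, fun Z π hπ => ?_⟩
  let Q := pullback ν π
  have h1 : FlatMor.IsUnivHomeo (pullback.fst ν π) := MorphismProperty.pullback_fst _ _ hπ
  have hq := UnivHomeo.Basic.comp (isUnivHomeo_reduced Q) h1
  have := isIso_of_isAWN hW _ hq
  refine ⟨inv (Q.nilradical.subschemeι ≫ pullback.fst ν π) ≫ Q.nilradical.subschemeι ≫
    pullback.snd ν π, ?_, fun h' hh' => hom_ext_of_isReduced hπ ?_⟩
  · simp only [Category.assoc, ← pullback.condition]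
    exact (congrArg _ (Category.assoc _ _ _).symm).trans (IsIso.inv_hom_id_assoc _ _)
  · rw [hh']
    simp only [Category.assoc, ← pullback.condition]
    exact ((congrArg _ (Category.assoc _ _ _).symm).trans (IsIso.inv_hom_id_assoc _ _)).symm

theorem isAWN_of_isOpenImmersion {W : Scheme.{u}} (j : W ⟶ X) [IsOpenImmersion j]
    (hX : HTop.IsAWN X) : HTop.IsAWN W := by
  refine (Groth.Agent.S7420.result W).2.mpr fun U => ?_
  exact AbsChar.isAWNRing_of_ringEquiv (j.appIso U.1).commRingCatIsoToRingEquiv
    ((Groth.Agent.S7420.result X).2.mp hX ⟨j ''ᵁ U.1, U.2.image_of_isOpenImmersion j⟩)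

/-- The absolute weak normalization of an affine open. -/
noncomputable def localAWN (U : X.affineOpens) : Scheme.{u} :=
  Spec (CommRingCat.of (AbsExists.awn Γ(X, U.1)))

instance (U : X.affineOpens) : IsAffine (localAWN U) :=
  inferInstanceAs (IsAffine (Spec _))

/-- The structure map of the local absolute weak normalization. -/
noncomputable def localMap (U : X.affineOpens) : localAWN U ⟶ U.1.toScheme :=
  Spec.map (CommRingCat.ofHom (algebraMap Γ(X, U.1) (AbsExists.awn Γ(X, U.1)))) ≫ U.2.isoSpec.inv

theorem isAWN_localAWN (U : X.affineOpens) : HTop.IsAWN (localAWN U) := fun _ =>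
  ⟨⟨⊤, isAffineOpen_top _⟩, trivial, AbsChar.isAWNRing_of_ringEquiv
    (Scheme.ΓSpecIso _).commRingCatIsoToRingEquiv.symm AbsChar.isAWNRing_awn⟩

theorem isUnivHomeo_localMap (U : X.affineOpens) : FlatMor.IsUnivHomeo (localMap U) :=
  UnivHomeo.Basic.comp AbsExists.isUnivHomeo_awn (UnivHomeo.Basic.of_isIso _)

theorem isAWNormalization_localMap (U : X.affineOpens) : HTop.IsAWNormalization (localMap U) :=
  isAWNormalization_of_isAWN _ (isUnivHomeo_localMap U) (isAWN_localAWN U)

theorem exists_trans {U V : X.affineOpens} (h : U ≤ V) :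
    ∃ t : localAWN U ⟶ localAWN V, IsPullback (localMap U) t (X.homOfLE h) (localMap V) := by
  let P := pullback (localMap V) (X.homOfLE h)
  have hp : FlatMor.IsUnivHomeo (pullback.snd (localMap V) (X.homOfLE h)) :=
    MorphismProperty.pullback_snd _ _ (isUnivHomeo_localMap V)
  have hP : HTop.IsAWN P :=
    isAWN_of_isOpenImmersion (pullback.fst (localMap V) (X.homOfLE h)) (isAWN_localAWN V)
  obtain ⟨a, ha, -⟩ := (isAWNormalization_localMap U).2 _ _ hp
  obtain ⟨b, hb, -⟩ := (isAWNormalization_of_isAWN _ hp hP).2 _ _ (isUnivHomeo_localMap U)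
  have hab : a ≫ b = 𝟙 _ := ((isAWNormalization_localMap U).2 _ _ (isUnivHomeo_localMap U)).unique
    (by rw [Category.assoc, hb, ha]) (Category.id_comp _)
  have hba : b ≫ a = 𝟙 _ := ((isAWNormalization_of_isAWN _ hp hP).2 _ _ hp).unique
    (by rw [Category.assoc, ha, hb]) (Category.id_comp _)
  refine ⟨a ≫ pullback.fst _ _, IsPullback.of_iso_pullback ⟨?_⟩
    (⟨a, b, hab, hba⟩ ≪≫ pullbackSymmetry _ _) ?_ ?_⟩
  · rw [← ha, Category.assoc, Category.assoc, pullback.condition]
  · simpa using ha
  · simp

/-- The transition maps. -/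
noncomputable def transMap {U V : X.affineOpens} (h : U ≤ V) : localAWN U ⟶ localAWN V :=
  (exists_trans h).choose

theorem transMap_w {U V : X.affineOpens} (h : U ≤ V) :
    transMap h ≫ localMap V = localMap U ≫ X.homOfLE h :=
  (exists_trans h).choose_spec.w.symm

theorem hom_ext_localAWN {U V : X.affineOpens} {s t : localAWN U ⟶ localAWN V}
    (e : s ≫ localMap V = t ≫ localMap V) : s = t := by
  have := isReduced_of_isAWN (isAWN_localAWN U)
  exact hom_ext_of_isReduced (isUnivHomeo_localMap V) e

/-- The gluing datum. -/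
noncomputable def gluingData (X : Scheme.{u}) :
    X.directedAffineCover.RelativeGluingData where
  functor :=
    { obj := fun U => localAWN U
      map := fun f => transMap (leOfHom f)
      map_id := fun U => hom_ext_localAWN (by rw [transMap_w, Category.id_comp]; simp)
      map_comp := fun f g => hom_ext_localAWN (by
        rw [transMap_w, Category.assoc, transMap_w, reassoc_of% (transMap_w (leOfHom f)),
          Scheme.homOfLE_homOfLE]) }
  natTrans := { app := fun U => localMap U, naturality := fun U V f => transMap_w (leOfHom f) }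
  equifibered := fun {U V} f => (exists_trans (leOfHom f)).choose_spec.flip

theorem exists_isAWNormalization (X : Scheme.{u}) :
    ∃ (X' : Scheme.{u}) (ν : X' ⟶ X), HTop.IsAWNormalization ν ∧ HTop.IsAWN X' := by
  let d := gluingData X
  have hU : FlatMor.IsUnivHomeo d.toBase := by
    have hloc : ∀ U : X.affineOpens, FlatMor.IsUnivHomeo
        (X.directedAffineCover.pullbackHom d.toBase U) := fun U => by
      have hpb := (d.isPullback_natTrans_ι_toBase U).flip
      refine ((FlatMor.IsUnivHomeo.{u}).cancel_left_of_respectsIso hpb.isoPullback.hom _).mp ?_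
      rw [show hpb.isoPullback.hom ≫ X.directedAffineCover.pullbackHom d.toBase U = localMap U from
        hpb.isoPullback_hom_snd]
      exact isUnivHomeo_localMap U
    rw [UnivHomeo.Basic.iff_integral_universallyInjective_surjective]
    refine ⟨?_, ?_, ?_⟩
    · exact (IsZariskiLocalAtTarget.iff_of_openCover (P := @IsIntegralHom) X.directedAffineCover).mpr
        fun i => UnivHomeo.Basic.isIntegralHom (hloc i)
    · exact (IsZariskiLocalAtTarget.iff_of_openCover (P := @UniversallyInjective)
        X.directedAffineCover).mpr fun i => UnivHomeo.Basic.universallyInjective (hloc i)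
    · exact (IsZariskiLocalAtTarget.iff_of_openCover (P := @Surjective)
        X.directedAffineCover).mpr fun i => UnivHomeo.Basic.surjective (hloc i)
  have hA : HTop.IsAWN d.glued := fun x => by
    obtain ⟨U, z, rfl⟩ := Scheme.IsLocallyDirected.ι_jointly_surjective d.functor x
    have : IsAffine (d.functor.obj U) := (inferInstance : IsAffine (localAWN (X := X) U))
    refine ⟨⟨_, isAffineOpen_opensRange (colimit.ι d.functor U)⟩, ⟨z, rfl⟩, ?_⟩
    exact AbsChar.isAWNRing_of_ringEquiv
      ((colimit.ι d.functor U).appIso ⊤).commRingCatIsoToRingEquiv.symm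
      (((Groth.Agent.S7420.result _).2.mp (isAWN_localAWN U)) ⟨⊤, isAffineOpen_top _⟩) |>
      AbsChar.isAWNRing_of_ringEquiv (d.glued.presheaf.mapIso (eqToIso (by
        rw [Scheme.Hom.image_top_eq_opensRange])).op).commRingCatIsoToRingEquiv
  exact ⟨d.glued, d.toBase, isAWNormalization_of_isAWN _ hU hA, hA⟩

theorem isAWN_source {X' : Scheme.{u}} {ν : X' ⟶ X} (hν : HTop.IsAWNormalization ν) :
    HTop.IsAWN X' := by
  obtain ⟨W, μ, hμ, hW⟩ := exists_isAWNormalization X
  obtain ⟨a, ha, -⟩ := hν.2 _ μ hμ.1
  obtain ⟨b, hb, -⟩ := hμ.2 _ ν hν.1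
  have hab : a ≫ b = 𝟙 _ := (hν.2 _ ν hν.1).unique (by rw [Category.assoc, hb, ha]) (Category.id_comp _)
  have hba : b ≫ a = 𝟙 _ := (hμ.2 _ μ hμ.1).unique (by rw [Category.assoc, ha, hb]) (Category.id_comp _)
  have : IsIso a := ⟨b, hab, hba⟩
  exact isAWN_of_isOpenImmersion a hW

end Groth.Agent.Lib.WeakNormal.AbsScheme
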