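import Groth.Agent.Lib.WeakNormal.AbsExists
import Groth.Agent.Lib.Seminormal.Basic
import Groth.Agent.S7399
import Mathlib.FieldTheory.IsAlgClosed.Basic

/-!
The absolute weak normalization is characterised as the universally homeomorphic algebra which is
absolutely weakly normal.
-/

universe u

open CategoryTheory AlgebraicGeometry

namespace Groth.Agent.Lib.WeakNormal.AbsChar

open AbsExists

variable {A : Type u} [CommRing A]

theorem spec_isUnivHomeo_of_comp {B C : Type u} [CommRing B] [CommRing C] {φ : A →+* B}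
    {ψ : B →+* C} (h : FlatMor.IsUnivHomeo (Spec.map (CommRingCat.ofHom (ψ.comp φ))))
    (hφ : FlatMor.IsUnivHomeo (Spec.map (CommRingCat.ofHom φ))) :
    FlatMor.IsUnivHomeo (Spec.map (CommRingCat.ofHom ψ)) := by
  rw [CommRingCat.ofHom_comp, Spec.map_comp] at h
  exact UnivHomeo.Basic.of_comp_right h hφ

theorem spec_isUnivHomeo_comp {B C : Type u} [CommRing B] [CommRing C] {φ : A →+* B}
    {ψ : B →+* C} (hψ : FlatMor.IsUnivHomeo (Spec.map (CommRingCat.ofHom ψ)))
    (hφ : FlatMor.IsUnivHomeo (Spec.map (CommRingCat.ofHom φ))) :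
    FlatMor.IsUnivHomeo (Spec.map (CommRingCat.ofHom (ψ.comp φ))) := by
  rw [CommRingCat.ofHom_comp, Spec.map_comp]
  exact UnivHomeo.Basic.comp hψ hφ

/-- A reduced universally homeomorphic algebra over an absolutely weakly normal ring is trivial. -/
theorem bijective_of_isAWNRing (hA : HTop.IsAWNRing A) {C : Type u} [CommRing C] [_root_.IsReduced C]
    (ψ : A →+* C) (hψ : FlatMor.IsUnivHomeo (Spec.map (CommRingCat.ofHom ψ))) :
    Function.Bijective ψ := by
  have := Seminormal.Basic.isReduced_of_isSeminormalRing hA.1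
  have hinj : Function.Injective ψ := by
    let := ψ.toAlgebra
    rw [injective_iff_map_eq_zero]
    intro a ha
    refine IsNilpotent.eq_zero (nilpotent_iff_mem_prime.mpr fun P hP => ?_)
    obtain ⟨q, hq⟩ := (isUnivHomeo_iff (A := A) (C := C)).mp hψ |>.2.2 ⟨P, hP⟩
    have : a ∈ (PrimeSpectrum.comap (algebraMap A C) q).asIdeal :=
      show ψ a ∈ q.asIdeal by rw [ha]; exact zero_mem _
    rwa [hq] at this
  refine ⟨hinj, ?_⟩
  by_contra hns
  obtain ⟨b, hb, ⟨x, hx⟩, y, hy⟩ | ⟨p, b, hp, hb, ⟨y, hy⟩, x, hx⟩ :=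
    Groth.Agent.S7399.result ψ hinj hns hψ
  · obtain ⟨a, ⟨ha, ha'⟩, -⟩ := hA.1 x y (hinj (by rw [map_pow, map_pow, hx, hy]; ring))
    exact hb ⟨a, Seminormal.Basic.eq_of_sq_of_cube (by rw [← hx, ha, map_pow])
      (by rw [← hy, ha', map_pow])⟩
  · obtain ⟨a, ⟨ha, ha'⟩, -⟩ := hA.2 p hp x y
      (hinj (by rw [map_mul, map_pow, map_pow, map_natCast, hx, hy, mul_pow]))
    exact hb ⟨a, Seminormal.Basic.eq_of_pow_of_mul hp (by rw [← hx, ha, map_pow])
      (by rw [← hy, ha', map_mul, map_natCast])⟩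

theorem isReduced_awn : _root_.IsReduced (awn A) :=
  isReduced_of_injective (awn A).val Subtype.val_injective

theorem mem_awn_of_eq {a : geomPoints A}
    (hint : IsIntegral A a)
    (h : ∀ (D : Subalgebra A (geomPoints A)) (hle : awn A ≤ D) (haD : a ∈ D) (K : Type u) [Field K]
      (φ ψ : D →+* K), φ.comp (Subalgebra.inclusion hle).toRingHom =
        ψ.comp (Subalgebra.inclusion hle).toRingHom → φ ⟨a, haD⟩ = ψ ⟨a, haD⟩) :
    a ∈ awn A := by
  let D : Subalgebra A (geomPoints A) := awn A ⊔ Algebra.adjoin A {a}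
  have hle : awn A ≤ D := le_sup_left
  have haD : a ∈ D :=
    (le_sup_right : Algebra.adjoin A {a} ≤ D) (Algebra.subset_adjoin (Set.mem_singleton a))
  refine le_awn (D := D) (isUnivHomeo_iff.mpr ⟨?_, ?_, exists_point_of_subalgebra D⟩) haD
  · have h1 : awn A ≤ integralClosure A (geomPoints A) := fun x hx =>
      ((isUnivHomeo_iff.mp isUnivHomeo_awn).1.isIntegral (⟨x, hx⟩ : awn A)).map (awn A).val
    have h2 : D ≤ integralClosure A (geomPoints A) :=
      sup_le h1 (Algebra.adjoin_le (Set.singleton_subset_iff.mpr hint))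
    exact ⟨fun x => (isIntegral_algHom_iff D.val Subtype.val_injective).mp (h2 x.2)⟩
  · refine universallyInjective_of_algHom_ext fun K _ φ ψ e => ?_
    have e2 : φ.comp (Subalgebra.inclusion hle).toRingHom =
        ψ.comp (Subalgebra.inclusion hle).toRingHom := by
      refine ringHom_ext_of_univHomeo isUnivHomeo_awn (RingHom.ext fun r => ?_)
      exact DFunLike.congr_fun e r
    let E : Subalgebra A D :=
      { __ := RingHom.eqLocus φ ψ
        algebraMap_mem' := fun r => DFunLike.congr_fun e r }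
    have hD : D ≤ E.map D.val := by
      refine sup_le (fun x hx => ⟨⟨x, hle hx⟩, (DFunLike.congr_fun e2 (⟨x, hx⟩ : awn A) :
        φ ⟨x, hle hx⟩ = ψ ⟨x, hle hx⟩), rfl⟩) ?_
      exact Algebra.adjoin_le (Set.singleton_subset_iff.mpr ⟨⟨a, haD⟩, h D hle haD K φ ψ e2, rfl⟩)
    refine RingHom.ext fun x => ?_
    obtain ⟨y, hy, hyx⟩ := hD x.2
    rwa [show y = x from Subtype.ext hyx] at hy

theorem isAWNRing_awn : HTop.IsAWNRing (awn A) := by
  have := isReduced_awn (A := A)
  have hint : ∀ z : awn A, IsIntegral A (z : geomPoints A) := fun z =>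
    ((isUnivHomeo_iff.mp (isUnivHomeo_awn (A := A))).1.isIntegral z).map (awn A).val
  refine Seminormal.Basic.isAWNRing_of_exists
    (Seminormal.Basic.isSeminormalRing_of_exists fun x y hxy => ?_) fun p hp x y hxy => ?_
  · classical
    have hxy' : ∀ i, (x : geomPoints A) i ^ 3 = (y : geomPoints A) i ^ 2 := fun i =>
      congrArg (fun z : awn A => (z : geomPoints A) i) hxy
    let a : geomPoints A := fun i => (y : geomPoints A) i / (x : geomPoints A) i
    have ha2 : a ^ 2 = x := funext fun i => by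
      show ((y : geomPoints A) i / (x : geomPoints A) i) ^ 2 = (x : geomPoints A) i
      by_cases h0 : (x : geomPoints A) i = 0
      · simp [h0]
      · rw [div_pow, ← hxy' i]
        field_simp
    have ha3 : a ^ 3 = y := funext fun i => by
      show ((y : geomPoints A) i / (x : geomPoints A) i) ^ 3 = (y : geomPoints A) i
      by_cases h0 : (x : geomPoints A) i = 0
      · have h := hxy' i
        rw [h0, zero_pow (by norm_num)] at h
        simp [h0, eq_zero_of_pow_eq_zero h.symm]
      · rw [div_pow, hxy' i]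
        field_simp
    have hmem : a ∈ awn A := mem_awn_of_eq
      (IsIntegral.of_pow (by norm_num : 0 < 2) (ha2 ▸ hint x)) fun D hle haD K _ φ ψ e => by
        have h2 : (⟨a, haD⟩ : D) ^ 2 = Subalgebra.inclusion hle x := Subtype.ext ha2
        have h3 : (⟨a, haD⟩ : D) ^ 3 = Subalgebra.inclusion hle y := Subtype.ext ha3
        refine Seminormal.Basic.eq_of_sq_of_cube ?_ ?_
        · rw [← map_pow, ← map_pow, h2]; exact DFunLike.congr_fun e x
        · rw [← map_pow, ← map_pow, h3]; exact DFunLike.congr_fun e y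
    exact ⟨⟨a, hmem⟩, Subtype.ext ha2.symm, Subtype.ext ha3.symm⟩
  · classical
    have hxy' : ∀ i : PrimeSpectrum A, (p : AlgebraicClosure i.asIdeal.ResidueField) ^ p *
        (x : geomPoints A) i = (y : geomPoints A) i ^ p := fun i =>
      congrArg (fun z : awn A => (z : geomPoints A) i) hxy
    have hex : ∀ i : PrimeSpectrum A, ∃ a : AlgebraicClosure i.asIdeal.ResidueField,
        (x : geomPoints A) i = a ^ p ∧ (y : geomPoints A) i = (p : _) * a := by
      intro i
      by_cases h0 : (p : AlgebraicClosure i.asIdeal.ResidueField) = 0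
      · obtain ⟨a, ha⟩ := IsAlgClosed.exists_pow_nat_eq ((x : geomPoints A) i) hp.pos
        refine ⟨a, ha.symm, ?_⟩
        have h := hxy' i
        rw [h0, zero_pow hp.ne_zero, zero_mul] at h
        rw [h0, zero_mul]
        exact eq_zero_of_pow_eq_zero h.symm
      · refine ⟨(y : geomPoints A) i / p, ?_, by field_simp⟩
        rw [div_pow, ← hxy' i]
        field_simp
    choose a ha ha' using hex
    have hap : (a : geomPoints A) ^ p = x := funext fun i => (ha i).symm
    have hap' : (p : geomPoints A) * a = y := funext fun i => (ha' i).symm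
    have hmem : a ∈ awn A := mem_awn_of_eq
      (IsIntegral.of_pow hp.pos (hap ▸ hint x)) fun D hle haD K _ φ ψ e => by
        have h2 : (⟨a, haD⟩ : D) ^ p = Subalgebra.inclusion hle x := Subtype.ext hap
        have h3 : (p : D) * ⟨a, haD⟩ = Subalgebra.inclusion hle y := Subtype.ext hap'
        refine Seminormal.Basic.eq_of_pow_of_mul hp ?_ ?_
        · rw [← map_pow, ← map_pow, h2]; exact DFunLike.congr_fun e x
        · rw [← map_natCast φ p, ← map_mul, h3, map_natCast, ← map_natCast ψ p, ← map_mul, h3]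
          exact DFunLike.congr_fun e y
    exact ⟨⟨a, hmem⟩, Subtype.ext hap.symm, Subtype.ext hap'.symm⟩

theorem isAWNRing_of_ringEquiv {B C : Type u} [CommRing B] [CommRing C] (e : B ≃+* C)
    (h : HTop.IsAWNRing B) : HTop.IsAWNRing C := by
  refine ⟨fun x y hxy => ?_, fun p hp x y hxy => ?_⟩
  · obtain ⟨a, ⟨ha, ha'⟩, hu⟩ := h.1 (e.symm x) (e.symm y) (by rw [← map_pow, hxy, map_pow])
    refine ⟨e a, ⟨by rw [← map_pow, ← ha, e.apply_symm_apply],
      by rw [← map_pow, ← ha', e.apply_symm_apply]⟩, fun b hb => ?_⟩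
    rw [← hu (e.symm b) ⟨by rw [← map_pow, ← hb.1], by rw [← map_pow, ← hb.2]⟩, e.apply_symm_apply]
  · obtain ⟨a, ⟨ha, ha'⟩, hu⟩ := h.2 p hp (e.symm x) (e.symm y)
      (by rw [← map_natCast e.symm, ← map_pow, ← map_mul, hxy, map_pow])
    refine ⟨e a, ⟨by rw [← map_pow, ← ha, e.apply_symm_apply],
      by rw [← map_natCast e, ← map_mul, ← ha', e.apply_symm_apply]⟩, fun b hb => ?_⟩
    rw [← hu (e.symm b) ⟨by rw [← map_pow, ← hb.1],
      by rw [← map_natCast e.symm, ← map_mul, ← hb.2]⟩, e.apply_symm_apply]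

/-- A universally homeomorphic absolutely weakly normal algebra is the absolute weak normalization. -/
theorem isRingAWN_of_isAWNRing {W : Type u} [CommRing W] (φ : A →+* W)
    (hφ : FlatMor.IsUnivHomeo (Spec.map (CommRingCat.ofHom φ))) (hW : HTop.IsAWNRing W) :
    HTop.IsRingAWN φ := by
  have := isReduced_awn (A := A)
  obtain ⟨χ, hχ, -⟩ := isRingAWN_awn.2 W φ hφ
  have hb := bijective_of_isAWNRing hW χ
    (spec_isUnivHomeo_of_comp (by rw [hχ]; exact isUnivHomeo_awn) hφ)
  let e := RingEquiv.ofBijective χ hb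
  refine ⟨hφ, fun C _ ψ hψ => ?_⟩
  obtain ⟨ξ, hξ, hu⟩ := isRingAWN_awn.2 C ψ hψ
  refine ⟨e.symm.toRingHom.comp ξ, ?_, fun ξ' hξ' => ?_⟩
  · refine RingHom.ext fun a => e.injective ?_
    simp only [RingHom.comp_apply, RingEquiv.toRingHom_eq_coe, RingEquiv.coe_toRingHom,
      RingEquiv.apply_symm_apply]
    exact (DFunLike.congr_fun hξ a).trans (DFunLike.congr_fun hχ a).symm
  · refine RingHom.ext fun c => e.injective ?_
    simp only [RingHom.comp_apply, RingEquiv.toRingHom_eq_coe, RingEquiv.coe_toRingHom,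
      RingEquiv.apply_symm_apply]
    exact DFunLike.congr_fun (hu (χ.comp ξ')
      (show (χ.comp ξ').comp ψ = _ by rw [RingHom.comp_assoc, show ξ'.comp ψ = φ from hξ', hχ])) c

theorem isAWNRing_of_isRingAWN {W : Type u} [CommRing W] {φ : A →+* W} (hφ : HTop.IsRingAWN φ) :
    HTop.IsAWNRing W := by
  obtain ⟨f, hf, -⟩ := isRingAWN_awn.2 W φ hφ.1
  obtain ⟨g, hg, -⟩ := hφ.2 (awn A) (algebraMap A (awn A)) isUnivHomeo_awn
  have h1 : f.comp g = RingHom.id _ := (isRingAWN_awn.2 (awn A) (algebraMap A (awn A))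
    isUnivHomeo_awn).unique (by rw [RingHom.comp_assoc, hg, hf]) (RingHom.id_comp _)
  have h2 : g.comp f = RingHom.id _ :=
    (hφ.2 W φ hφ.1).unique (by rw [RingHom.comp_assoc, hf, hg]) (RingHom.id_comp _)
  exact isAWNRing_of_ringEquiv (RingEquiv.ofRingHom g f h2 h1) isAWNRing_awn

theorem bijective_iff_isAWNRing {B W : Type u} [CommRing B] [CommRing W] {φ : A →+* W}
    (hφ : HTop.IsRingAWN φ) {ψ : A →+* B}
    (hψ : FlatMor.IsUnivHomeo (Spec.map (CommRingCat.ofHom ψ))) (χ : B →+* W)
    (hχ : χ.comp ψ = φ) : Function.Bijective χ ↔ HTop.IsAWNRing B := by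
  have hW := isAWNRing_of_isRingAWN hφ
  refine ⟨fun hb => isAWNRing_of_ringEquiv (RingEquiv.ofBijective χ hb).symm hW, fun hB => ?_⟩
  have := Seminormal.Basic.isReduced_of_isSeminormalRing hW.1
  exact bijective_of_isAWNRing hB χ (spec_isUnivHomeo_of_comp (by rw [hχ]; exact hφ.1) hψ)

end Groth.Agent.Lib.WeakNormal.AbsChar
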