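import Groth.Agent.Lib.WeakNormal.Equalizer
import Groth.Prelude.Def_HTop2
import Mathlib.RingTheory.Algebraic.Integral
import Mathlib.FieldTheory.IsAlgClosed.AlgebraicClosure
import Mathlib.RingTheory.LocalRing.ResidueField.Ideal

/-!
Existence of the absolute weak normalization of a ring: inside the product of algebraic closures of
all residue fields, the supremum of all subalgebras which are universally homeomorphic to `A`.
-/

universe u

open CategoryTheory AlgebraicGeometry

namespace Groth.Agent.Lib.WeakNormal.AbsExists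

variable (A : Type u) [CommRing A]

/-- The product of algebraic closures of the residue fields of `A`. -/
abbrev geomPoints : Type u := ∀ p : PrimeSpectrum A, AlgebraicClosure p.asIdeal.ResidueField

variable {A}

/-- The ring map is integral with universally injective and surjective spectrum. -/
theorem isUnivHomeo_iff {C : Type u} [CommRing C] [Algebra A C] :
    FlatMor.IsUnivHomeo (Spec.map (CommRingCat.ofHom (algebraMap A C))) ↔
      Algebra.IsIntegral A C ∧
        UniversallyInjective (Spec.map (CommRingCat.ofHom (algebraMap A C))) ∧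
          ∀ p : PrimeSpectrum A, ∃ q : PrimeSpectrum C, PrimeSpectrum.comap (algebraMap A C) q = p := by
  rw [UnivHomeo.Basic.iff_integral_universallyInjective_surjective, IsIntegralHom.SpecMap_iff]
  exact and_congr algebraMap_isIntegral_iff
    (and_congr Iff.rfl ⟨fun h => h.surj, fun h => ⟨h⟩⟩)

theorem universallyInjective_of_algHom_ext {C : Type u} [CommRing C] [Algebra A C]
    (h : ∀ (K : Type u) [Field K] (φ ψ : C →+* K),
      φ.comp (algebraMap A C) = ψ.comp (algebraMap A C) → φ = ψ) :
    UniversallyInjective (Spec.map (CommRingCat.ofHom (algebraMap A C))) := by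
  refine ((tfae_universallyInjective _).out 1 0 rfl rfl).mp fun K _ g₁ g₂ hg => ?_
  obtain ⟨φ₁, rfl⟩ := Spec.map_surjective g₁
  obtain ⟨φ₂, rfl⟩ := Spec.map_surjective g₂
  simp only [← Spec.map_comp] at hg
  have hA := Spec.map_inj.mp hg
  congr 1
  exact CommRingCat.hom_ext (h K _ _ (congrArg CommRingCat.Hom.hom hA))

theorem ringHom_ext_of_univHomeo {C : Type u} [CommRing C] [Algebra A C]
    (h : FlatMor.IsUnivHomeo (Spec.map (CommRingCat.ofHom (algebraMap A C))))
    {K : Type u} [Field K] {φ ψ : C →+* K}
    (e : φ.comp (algebraMap A C) = ψ.comp (algebraMap A C)) : φ = ψ := by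
  let := (φ.comp (algebraMap A C)).toAlgebra
  let f : C →ₐ[A] K := { __ := φ, commutes' := fun _ => rfl }
  let g : C →ₐ[A] K := { __ := ψ, commutes' := fun a => (DFunLike.congr_fun e a).symm }
  exact congrArg AlgHom.toRingHom
    (Equalizer.algHom_ext_of_universallyInjective (UnivHomeo.Basic.universallyInjective h) f g)

theorem exists_point_hom {C : Type u} [CommRing C] [Algebra A C] [Algebra.IsIntegral A C]
    (q : PrimeSpectrum C) (p : PrimeSpectrum A) (h : PrimeSpectrum.comap (algebraMap A C) q = p) :
    Nonempty (C →ₐ[A] AlgebraicClosure p.asIdeal.ResidueField) := by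
  have : q.asIdeal.LiesOver p.asIdeal := ⟨by rw [← h]; rfl⟩
  have : FaithfulSMul (A ⧸ p.asIdeal) (AlgebraicClosure p.asIdeal.ResidueField) := by
    rw [faithfulSMul_iff_algebraMap_injective,
      IsScalarTower.algebraMap_eq (A ⧸ p.asIdeal) p.asIdeal.ResidueField]
    exact (algebraMap p.asIdeal.ResidueField (AlgebraicClosure p.asIdeal.ResidueField)).injective.comp
      p.asIdeal.injective_algebraMap_quotient_residueField
  have : Algebra.IsAlgebraic (A ⧸ p.asIdeal) (C ⧸ q.asIdeal) := inferInstance
  let χ : (C ⧸ q.asIdeal) →ₐ[A ⧸ p.asIdeal] AlgebraicClosure p.asIdeal.ResidueField :=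
    IsAlgClosed.lift
  refine ⟨{ __ := χ.toRingHom.comp (Ideal.Quotient.mk q.asIdeal), commutes' := fun a => ?_ }⟩
  refine (χ.commutes (Ideal.Quotient.mk p.asIdeal a)).trans ?_
  exact (IsScalarTower.algebraMap_apply A (A ⧸ p.asIdeal)
    (AlgebraicClosure p.asIdeal.ResidueField) a).symm

theorem exists_hom_geomPoints {C : Type u} [CommRing C] [Algebra A C]
    (h : FlatMor.IsUnivHomeo (Spec.map (CommRingCat.ofHom (algebraMap A C)))) :
    Nonempty (C →ₐ[A] geomPoints A) := by
  obtain ⟨hint, -, hs⟩ := isUnivHomeo_iff.mp h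
  choose q hq using hs
  exact ⟨AlgHom.pi fun p => (exists_point_hom (q p) p (hq p)).some⟩

theorem exists_point_of_subalgebra (D : Subalgebra A (geomPoints A)) (p : PrimeSpectrum A) :
    ∃ q : PrimeSpectrum D, PrimeSpectrum.comap (algebraMap A D) q = p := by
  let π : D →+* AlgebraicClosure p.asIdeal.ResidueField :=
    (Pi.evalRingHom (fun p : PrimeSpectrum A => AlgebraicClosure p.asIdeal.ResidueField) p).comp
      D.val.toRingHom
  refine ⟨⟨RingHom.ker π, RingHom.ker_isPrime π⟩, PrimeSpectrum.ext (Ideal.ext fun a => ?_)⟩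
  show algebraMap p.asIdeal.ResidueField (AlgebraicClosure p.asIdeal.ResidueField)
    (algebraMap A p.asIdeal.ResidueField a) = 0 ↔ a ∈ p.asIdeal
  rw [map_eq_zero, Ideal.algebraMap_residueField_eq_zero]

theorem isUnivHomeo_range {C : Type u} [CommRing C] [Algebra A C]
    (h : FlatMor.IsUnivHomeo (Spec.map (CommRingCat.ofHom (algebraMap A C))))
    (f : C →ₐ[A] geomPoints A) :
    FlatMor.IsUnivHomeo (Spec.map (CommRingCat.ofHom (algebraMap A f.range))) := by
  obtain ⟨hint, -, -⟩ := isUnivHomeo_iff.mp h
  refine isUnivHomeo_iff.mpr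
    ⟨⟨fun x => ?_⟩, universallyInjective_of_algHom_ext fun K _ φ ψ e => ?_,
      exists_point_of_subalgebra f.range⟩
  · obtain ⟨c, rfl⟩ := f.rangeRestrict_surjective x
    exact (Algebra.IsIntegral.isIntegral c).map f.rangeRestrict
  · refine RingHom.cancel_right f.rangeRestrict_surjective |>.mp
      (ringHom_ext_of_univHomeo (φ := φ.comp f.rangeRestrict.toRingHom)
        (ψ := ψ.comp f.rangeRestrict.toRingHom) h ?_)
    refine RingHom.ext fun a => ?_
    have h1 := DFunLike.congr_fun e a
    simp only [RingHom.comp_apply] at h1 ⊢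
    rw [show f.rangeRestrict.toRingHom (algebraMap A C a) = algebraMap A f.range a from
      f.rangeRestrict.commutes a]
    exact h1

variable (A)

/-- The absolute weak normalization, as a subalgebra of `geomPoints A`. -/
noncomputable def awn : Subalgebra A (geomPoints A) :=
  sSup {D | FlatMor.IsUnivHomeo (Spec.map (CommRingCat.ofHom (algebraMap A D)))}

variable {A}

theorem le_awn {D : Subalgebra A (geomPoints A)}
    (h : FlatMor.IsUnivHomeo (Spec.map (CommRingCat.ofHom (algebraMap A D)))) : D ≤ awn A :=
  le_sSup h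

theorem isUnivHomeo_awn :
    FlatMor.IsUnivHomeo (Spec.map (CommRingCat.ofHom (algebraMap A (awn A)))) := by
  refine isUnivHomeo_iff.mpr ⟨?_, universallyInjective_of_algHom_ext fun K _ φ ψ e => ?_,
    exists_point_of_subalgebra (awn A)⟩
  · have : awn A ≤ integralClosure A (geomPoints A) := sSup_le fun D hD x hx =>
      ((isUnivHomeo_iff.mp hD).1.isIntegral (⟨x, hx⟩ : D)).map D.val
    exact ⟨fun x => (isIntegral_algHom_iff (awn A).val Subtype.val_injective).mp (this x.2)⟩
  · let E : Subalgebra A (awn A) :=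
      { __ := RingHom.eqLocus φ ψ
        algebraMap_mem' := fun a => DFunLike.congr_fun e a }
    have : awn A ≤ E.map (awn A).val := sSup_le fun D hD x hx => by
      refine ⟨⟨x, le_awn hD hx⟩, ?_, rfl⟩
      exact DFunLike.congr_fun (ringHom_ext_of_univHomeo
        (φ := φ.comp (Subalgebra.inclusion (le_awn hD)).toRingHom)
        (ψ := ψ.comp (Subalgebra.inclusion (le_awn hD)).toRingHom) hD
        (RingHom.ext fun a => DFunLike.congr_fun e a)) (⟨x, hx⟩ : D)
    refine RingHom.ext fun x => ?_
    obtain ⟨y, hy, hyx⟩ := this x.2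
    rwa [show y = x from Subtype.ext hyx] at hy

theorem isRingAWN_awn : HTop.IsRingAWN (algebraMap A (awn A)) := by
  refine ⟨isUnivHomeo_awn, fun C _ ψ hψ => ?_⟩
  let := ψ.toAlgebra
  obtain ⟨f⟩ := exists_hom_geomPoints (C := C) hψ
  have hle : f.range ≤ awn A := le_awn (isUnivHomeo_range (C := C) hψ f)
  let χ : C →ₐ[A] awn A := (Subalgebra.inclusion hle).comp f.rangeRestrict
  refine ⟨χ.toRingHom, χ.comp_algebraMap, fun χ' hχ' => RingHom.ext fun c => Subtype.ext ?_⟩
  funext p
  exact DFunLike.congr_fun (ringHom_ext_of_univHomeo (A := A) (C := C)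
    (φ := ((Pi.evalRingHom (fun p : PrimeSpectrum A => AlgebraicClosure p.asIdeal.ResidueField) p).comp
      (awn A).val.toRingHom).comp χ')
    (ψ := ((Pi.evalRingHom (fun p : PrimeSpectrum A => AlgebraicClosure p.asIdeal.ResidueField) p).comp
      (awn A).val.toRingHom).comp χ.toRingHom) hψ (RingHom.ext fun a => by
      have h1 := DFunLike.congr_fun hχ' a
      have h2 := χ.commutes a
      simp only [RingHom.comp_apply] at h1 ⊢
      exact congrArg (fun z : awn A => (z : geomPoints A) p) (h1.trans h2.symm))) c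

end Groth.Agent.Lib.WeakNormal.AbsExists
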