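import Groth.Agent.Lib.WeakNormal.Equalizer
import Groth.Agent.Lib.WeakNormal.AbsChar
import Groth.Agent.H56.AbsFlat
import Mathlib.RingTheory.Smooth.IntegralClosure
import Mathlib.RingTheory.Localization.BaseChange
import Mathlib.RingTheory.Flat.Basic

/-!
The weak subintegral closure commutes with weakly étale base changes which preserve integral
closures.
-/

universe u

open CategoryTheory AlgebraicGeometry TensorProduct

namespace Groth.Agent.Lib.WeakNormal.BaseChange

variable {A : Type u} [CommRing A]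

theorem isUnivHomeo_range {D E : Type u} [CommRing D] [CommRing E] [Algebra A D] [Algebra A E]
    (f : D →ₐ[A] E) (hf : Function.Injective f)
    (h : FlatMor.IsUnivHomeo (Spec.map (CommRingCat.ofHom (algebraMap A D)))) :
    FlatMor.IsUnivHomeo (Spec.map (CommRingCat.ofHom (algebraMap A f.range))) := by
  let e := AlgEquiv.ofInjective f hf
  have : IsIso (CommRingCat.ofHom (e : D →+* f.range)) :=
    (ConcreteCategory.isIso_iff_bijective _).mpr e.bijective
  rw [show algebraMap A f.range = (e : D →+* f.range).comp (algebraMap A D) from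
    RingHom.ext fun a => (e.commutes a).symm]
  exact AbsChar.spec_isUnivHomeo_comp (UnivHomeo.Basic.of_isIso _) h

theorem isUnivHomeo_tensor (A' : Type u) [CommRing A'] [Algebra A A'] {C : Type u} [CommRing C]
    [Algebra A C] (h : FlatMor.IsUnivHomeo (Spec.map (CommRingCat.ofHom (algebraMap A C)))) :
    FlatMor.IsUnivHomeo (Spec.map (CommRingCat.ofHom (algebraMap A' (A' ⊗[A] C)))) := by
  have hpb := isPullback_SpecMap_of_isPushout _ _ _ _
    (CommRingCat.isPushout_tensorProduct A A' C)
  have e : algebraMap A' (A' ⊗[A] C) =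
      (Algebra.TensorProduct.includeLeftRingHom : A' →+* A' ⊗[A] C) := rfl
  rw [e]
  exact MorphismProperty.of_isPullback (P := FlatMor.IsUnivHomeo) hpb.flip h

theorem weaklyEtale_of_isLocalization {A' : Type u} [CommRing A'] [Algebra A A'] (M : Submonoid A)
    [IsLocalization M A'] : Algebra.WeaklyEtale A A' where
  flat := IsLocalization.flat A' M
  flat_lmul' := RingHom.Flat.of_bijective (IsLocalization.bijective_linearMap_mul' M A')

theorem eq_of_mem {A' T T' R : Type u} [CommRing A'] [CommRing T] [CommRing T'] [CommRing R]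
    [Algebra A' T] [Algebra A' T'] [Algebra A' R] [_root_.IsReduced R] (j : T →ₐ[A'] T')
    (hj : Function.Injective j) (C' : Subalgebra A' T') (hle : (C' : Set T') ⊆ Set.range j)
    (hC' : FlatMor.IsUnivHomeo (Spec.map (CommRingCat.ofHom (algebraMap A' C'))))
    (U V : T →ₐ[A'] R) {y : T} (hy : j y ∈ C') : U y = V y := by
  let D := C'.comap j
  let f : D →ₐ[A'] C' := (j.comp D.val).codRestrict C' fun a => a.2
  have hf : Function.Bijective f := by
    refine ⟨fun a b h => Subtype.ext (hj (congrArg Subtype.val h)), fun x => ?_⟩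
    obtain ⟨a, ha⟩ := hle x.2
    exact ⟨⟨a, show j a ∈ C' from ha ▸ x.2⟩, Subtype.ext ha⟩
  let e := AlgEquiv.ofBijective f hf
  have hD : UniversallyInjective (Spec.map (CommRingCat.ofHom (algebraMap A' D))) := by
    have : IsIso (CommRingCat.ofHom (e.symm : C' →+* D)) :=
      (ConcreteCategory.isIso_iff_bijective _).mpr e.symm.bijective
    rw [show algebraMap A' D = (e.symm : C' →+* D).comp (algebraMap A' C') from
      RingHom.ext fun a => (e.symm.commutes a).symm]
    exact UnivHomeo.Basic.universallyInjective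
      (AbsChar.spec_isUnivHomeo_comp (UnivHomeo.Basic.of_isIso _) hC')
  rw [← sub_eq_zero]
  refine IsNilpotent.eq_zero (nilpotent_iff_mem_prime.mpr fun P hP => ?_)
  let π : R →ₐ[A'] P.ResidueField := IsScalarTower.toAlgHom A' R P.ResidueField
  have he := Equalizer.algHom_ext_of_universallyInjective hD
    ((π.comp U).comp D.val) ((π.comp V).comp D.val)
  refine Ideal.algebraMap_residueField_eq_zero.mp ?_
  exact (map_sub π _ _).trans (sub_eq_zero.mpr congr($he ⟨y, hy⟩))

theorem isReduced_tensor (A' : Type u) [CommRing A'] [Algebra A A'] [Algebra.WeaklyEtale A A']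
    (R : Type u) [CommRing R] [Algebra A R] [_root_.IsReduced R] :
    _root_.IsReduced (A' ⊗[A] R) := by
  have := H56.AbsFlat.isReduced_of_weaklyEtale R (R ⊗[A] A')
  exact isReduced_of_injective (Algebra.TensorProduct.comm A A' R)
    (Algebra.TensorProduct.comm A A' R).injective

theorem mem_range_of_eq (A' : Type u) [CommRing A'] [Algebra A A'] [Module.Flat A A']
    {E B R : Type u} [CommRing E] [CommRing B] [CommRing R] [Algebra A E] [Algebra A B]
    [Algebra A R] (G : E →ₐ[A] B) (l r : B →ₐ[A] R) (hG : ∀ b, l b = r b ↔ b ∈ Set.range G)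
    {y : A' ⊗[A] B} (h : Algebra.TensorProduct.map (AlgHom.id A' A') l y =
      Algebra.TensorProduct.map (AlgHom.id A' A') r y) :
    y ∈ Set.range (G.toLinearMap.lTensor A') := by
  have hex : Function.Exact G.toLinearMap (l.toLinearMap - r.toLinearMap) := fun b =>
    sub_eq_zero.trans (hG b)
  refine (Module.Flat.lTensor_exact A' hex y).mp ?_
  rw [LinearMap.lTensor_sub, LinearMap.sub_apply, sub_eq_zero]
  exact h

variable {B : Type u} [CommRing B] [Algebra A B]

theorem range_eq (hinj : Function.Injective (algebraMap A B)) (A' : Type u) [CommRing A']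
    [Algebra A A'] [Algebra.WeaklyEtale A A']
    (hcl : Function.Bijective (TensorProduct.toIntegralClosure A A' B))
    (C : Subalgebra A B) (hC : FlatMor.IsUnivHomeo (Spec.map (CommRingCat.ofHom (algebraMap A C))))
    (hmax : ∀ D : Subalgebra A B,
      FlatMor.IsUnivHomeo (Spec.map (CommRingCat.ofHom (algebraMap A D))) → D ≤ C)
    (C' : Subalgebra A' (A' ⊗[A] B))
    (hC' : FlatMor.IsUnivHomeo (Spec.map (CommRingCat.ofHom (algebraMap A' C'))))
    (hmax' : ∀ D : Subalgebra A' (A' ⊗[A] B),
      FlatMor.IsUnivHomeo (Spec.map (CommRingCat.ofHom (algebraMap A' D))) → D ≤ C') :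
    C' = (Algebra.TensorProduct.map (AlgHom.id A' A') C.val).range := by
  refine le_antisymm ?_ (hmax' _ (isUnivHomeo_range _ ?_ (isUnivHomeo_tensor A' hC)))
  swap
  · exact Module.Flat.lTensor_preserves_injective_linearMap C.val.toLinearMap Subtype.val_injective
  let B₀ := integralClosure A B
  let E := Equalizer.equalizerRed A B₀
  have hinj₀ : Function.Injective (algebraMap A B₀) := fun a b h => hinj (congrArg Subtype.val h)
  let g : E →ₐ[A] B := (integralClosure A B).val.comp E.val
  have hg : g.range ≤ C := hmax _ (isUnivHomeo_range g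
    (Subtype.val_injective.comp Subtype.val_injective) (Equalizer.isUnivHomeo_equalizerRed hinj₀))
  let j : A' ⊗[A] B₀ →ₐ[A'] A' ⊗[A] B :=
    Algebra.TensorProduct.map (AlgHom.id A' A') (integralClosure A B).val
  have hj : Function.Injective j :=
    Module.Flat.lTensor_preserves_injective_linearMap (integralClosure A B).val.toLinearMap
      Subtype.val_injective
  have hint : Algebra.IsIntegral A' C' := (AbsExists.isUnivHomeo_iff.mp hC').1
  have hle : (C' : Set (A' ⊗[A] B)) ⊆ Set.range j := fun x hx => by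
    obtain ⟨y, hy⟩ := hcl.2 ⟨x, (Algebra.IsIntegral.isIntegral (R := A') (⟨x, hx⟩ : C')).map C'.val⟩
    exact ⟨y, congrArg Subtype.val hy⟩
  let N := nilradical (B₀ ⊗[A] B₀)
  have : _root_.IsReduced ((B₀ ⊗[A] B₀) ⧸ N) :=
    Ideal.isRadical_iff_quotient_reduced _ |>.mp (Ideal.radical_isRadical _)
  have := isReduced_tensor (A := A) A' ((B₀ ⊗[A] B₀) ⧸ N)
  let l : B₀ →ₐ[A] (B₀ ⊗[A] B₀) ⧸ N :=
    (Ideal.Quotient.mkₐ A N).comp Algebra.TensorProduct.includeLeft
  let r : B₀ →ₐ[A] (B₀ ⊗[A] B₀) ⧸ N :=
    (Ideal.Quotient.mkₐ A N).comp Algebra.TensorProduct.includeRight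
  have hG : ∀ b, l b = r b ↔ b ∈ Set.range E.val := fun b => by
    show Ideal.Quotient.mk N (b ⊗ₜ[A] (1 : B₀)) = Ideal.Quotient.mk N ((1 : B₀) ⊗ₜ[A] b) ↔ _
    rw [Ideal.Quotient.eq, mem_nilradical, ← Equalizer.mem_equalizerRed]
    exact ⟨fun h => ⟨⟨b, h⟩, rfl⟩, fun ⟨a, ha⟩ => ha ▸ a.2⟩
  intro x hx
  obtain ⟨y, rfl⟩ := hle hx
  obtain ⟨w, rfl⟩ := mem_range_of_eq (R := (B₀ ⊗[A] B₀) ⧸ N) A' E.val l r hG
    (eq_of_mem j hj C' hle hC' _ _ hx)
  clear hx
  induction w using TensorProduct.induction_on with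
  | zero => rw [map_zero, map_zero]; exact zero_mem _
  | tmul a b => exact ⟨a ⊗ₜ ⟨g b, hg ⟨b, rfl⟩⟩, rfl⟩
  | add a b ha hb => rw [map_add, map_add]; exact add_mem ha hb

end Groth.Agent.Lib.WeakNormal.BaseChange
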