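import Groth.Agent.Lib.UnivHomeo.Basic
import Mathlib.RingTheory.TensorProduct.Basic
import Mathlib.RingTheory.Ideal.GoingUp
import Mathlib.FieldTheory.IsAlgClosed.Basic
import Mathlib.AlgebraicGeometry.ResidueField

/-!
The weak normalization of `A` in an integral extension `B` is the equalizer of
`B ⇉ (B ⊗_A B)_red`.
-/

universe u

open CategoryTheory AlgebraicGeometry TensorProduct

namespace Groth.Agent.Lib.WeakNormal.Equalizer

variable (A B : Type u) [CommRing A] [CommRing B] [Algebra A B]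

/-- The elements on which the two maps `B ⇉ (B ⊗_A B)_red` agree. -/
def equalizerRed : Subalgebra A B where
  carrier := {b | IsNilpotent (b ⊗ₜ[A] (1 : B) - (1 : B) ⊗ₜ[A] b)}
  mul_mem' {a b} (ha : IsNilpotent _) (hb : IsNilpotent _) := by
    show IsNilpotent ((a * b) ⊗ₜ[A] (1 : B) - (1 : B) ⊗ₜ[A] (a * b))
    have h : (a * b) ⊗ₜ[A] (1 : B) - (1 : B) ⊗ₜ[A] (a * b) =
        (a ⊗ₜ[A] (1 : B)) * (b ⊗ₜ[A] (1 : B) - (1 : B) ⊗ₜ[A] b) +
          ((1 : B) ⊗ₜ[A] b) * (a ⊗ₜ[A] (1 : B) - (1 : B) ⊗ₜ[A] a) := by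
      simp only [mul_sub, Algebra.TensorProduct.tmul_mul_tmul, one_mul, mul_one]
      rw [mul_comm b a]
      abel
    rw [h]
    exact Commute.isNilpotent_add (.all _ _) (Commute.isNilpotent_mul_left (.all _ _) hb)
      (Commute.isNilpotent_mul_left (.all _ _) ha)
  add_mem' {a b} (ha : IsNilpotent _) (hb : IsNilpotent _) := by
    show IsNilpotent ((a + b) ⊗ₜ[A] (1 : B) - (1 : B) ⊗ₜ[A] (a + b))
    have h : (a + b) ⊗ₜ[A] (1 : B) - (1 : B) ⊗ₜ[A] (a + b) =
        (a ⊗ₜ[A] (1 : B) - (1 : B) ⊗ₜ[A] a) + (b ⊗ₜ[A] (1 : B) - (1 : B) ⊗ₜ[A] b) := by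
      simp only [add_tmul, tmul_add]
      abel
    rw [h]
    exact Commute.isNilpotent_add (.all _ _) ha hb
  algebraMap_mem' a := by
    show IsNilpotent (algebraMap A B a ⊗ₜ[A] (1 : B) - (1 : B) ⊗ₜ[A] algebraMap A B a)
    rw [Algebra.algebraMap_eq_smul_one, smul_tmul, sub_self]
    exact IsNilpotent.zero

theorem mem_equalizerRed {b : B} :
    b ∈ equalizerRed A B ↔ IsNilpotent (b ⊗ₜ[A] (1 : B) - (1 : B) ⊗ₜ[A] b) := Iff.rfl

variable {A B}

theorem algHom_ext_of_universallyInjective {C : Type u} [CommRing C] [Algebra A C] {K : Type u}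
    [Field K] [Algebra A K]
    (h : UniversallyInjective (Spec.map (CommRingCat.ofHom (algebraMap A C))))
    (φ ψ : C →ₐ[A] K) : φ = ψ := by
  have h2 : ∀ (K : Type u) [Field K], Function.Injective
      (fun g : Spec (.of K) ⟶ Spec (CommRingCat.of C) ↦
        g ≫ Spec.map (CommRingCat.ofHom (algebraMap A C))) :=
    ((tfae_universallyInjective _).out 0 1 rfl rfl).mp h
  have h3 := Spec.map_inj.mp (@h2 K _ (Spec.map (CommRingCat.ofHom φ.toRingHom))
    (Spec.map (CommRingCat.ofHom ψ.toRingHom)) (by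
      simp only [← Spec.map_comp]
      congr 1
      ext a
      exact (φ.commutes a).trans (ψ.commutes a).symm))
  exact AlgHom.ext fun c => congr($h3 c)

theorem le_equalizerRed (C : Subalgebra A B)
    (h : UniversallyInjective (Spec.map (CommRingCat.ofHom (algebraMap A C)))) :
    C ≤ equalizerRed A B := by
  intro b hb
  have hn : IsNilpotent ((⟨b, hb⟩ : C) ⊗ₜ[A] (1 : C) - (1 : C) ⊗ₜ[A] ⟨b, hb⟩) := by
    rw [nilpotent_iff_mem_prime]
    intro P hP
    let π : C ⊗[A] C →ₐ[A] P.ResidueField := IsScalarTower.toAlgHom A (C ⊗[A] C) P.ResidueField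
    have e := algHom_ext_of_universallyInjective h
      (π.comp Algebra.TensorProduct.includeLeft) (π.comp Algebra.TensorProduct.includeRight)
    have e2 : π ((⟨b, hb⟩ : C) ⊗ₜ[A] (1 : C)) = π ((1 : C) ⊗ₜ[A] ⟨b, hb⟩) :=
      congr($e ⟨b, hb⟩)
    refine Ideal.algebraMap_residueField_eq_zero.mp ?_
    exact (map_sub π _ _).trans (sub_eq_zero.mpr e2)
  rw [mem_equalizerRed]
  have h5 := hn.map (Algebra.TensorProduct.map C.val C.val)
  rw [map_sub, Algebra.TensorProduct.map_tmul, Algebra.TensorProduct.map_tmul, map_one] at h5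
  exact h5

theorem exists_extension [Algebra.IsIntegral A B] (E : Subalgebra A B) {K : Type u} [Field K]
    [IsAlgClosed K] (φ : E →+* K) : ∃ ψ : B →+* K, ∀ x : E, ψ x = φ x := by
  have : Algebra.IsIntegral E B := Algebra.IsIntegral.tower_top A
  have hker : (RingHom.ker φ).IsPrime := RingHom.ker_isPrime φ
  obtain ⟨Q, -, hQ, hQc⟩ := Ideal.exists_ideal_over_prime_of_isIntegral (RingHom.ker φ)
    (⊥ : Ideal B) (fun x hx => by
      have : x = 0 := Subtype.ext ((Ideal.mem_bot).mp hx)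
      rw [this]; exact zero_mem _)
  have hQ' : Q.LiesOver (RingHom.ker φ) := ⟨hQc.symm⟩
  let := (RingHom.kerLift φ).toAlgebra
  have : FaithfulSMul (E ⧸ RingHom.ker φ) K :=
    (faithfulSMul_iff_algebraMap_injective _ _).mpr φ.kerLift_injective
  have : Algebra.IsAlgebraic (E ⧸ RingHom.ker φ) (B ⧸ Q) := inferInstance
  let χ : (B ⧸ Q) →ₐ[E ⧸ RingHom.ker φ] K := IsAlgClosed.lift
  exact ⟨χ.toRingHom.comp (Ideal.Quotient.mk Q),
    fun x => χ.commutes (Ideal.Quotient.mk _ x)⟩

theorem isUnivHomeo_equalizerRed [Algebra.IsIntegral A B]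
    (hinj : Function.Injective (algebraMap A B)) :
    FlatMor.IsUnivHomeo (Spec.map (CommRingCat.ofHom (algebraMap A (equalizerRed A B)))) := by
  set E := equalizerRed A B
  have hint : Algebra.IsIntegral A E :=
    ⟨fun x => (isIntegral_algHom_iff E.val Subtype.val_injective).mp (Algebra.IsIntegral.isIntegral x.1)⟩
  rw [UnivHomeo.Basic.iff_integral_universallyInjective_surjective]
  refine ⟨IsIntegralHom.SpecMap_iff.mpr (algebraMap_isIntegral_iff.mpr hint), ?_, ⟨fun p => ?_⟩⟩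
  · refine ((tfae_universallyInjective _).out 1 0 rfl rfl).mp fun K _ g₁ g₂ hg => ?_
    obtain ⟨φ₁, rfl⟩ := Spec.map_surjective g₁
    obtain ⟨φ₂, rfl⟩ := Spec.map_surjective g₂
    simp only [← Spec.map_comp] at hg
    have hA := Spec.map_inj.mp hg
    let i := algebraMap K (AlgebraicClosure K)
    obtain ⟨ψ₁, hψ₁⟩ := exists_extension E (i.comp φ₁.hom)
    obtain ⟨ψ₂, hψ₂⟩ := exists_extension E (i.comp φ₂.hom)
    let := (ψ₁.comp (algebraMap A B)).toAlgebra
    let f₁ : B →ₐ[A] AlgebraicClosure K := { __ := ψ₁, commutes' := fun _ => rfl }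
    let f₂ : B →ₐ[A] AlgebraicClosure K :=
      { __ := ψ₂
        commutes' := fun a => by
          show ψ₂ ((algebraMap A E a : E) : B) = ψ₁ ((algebraMap A E a : E) : B)
          rw [hψ₁, hψ₂]
          exact congrArg i (congr($hA a)).symm }
    congr 1
    ext x
    refine i.injective ?_
    refine ((hψ₁ x).symm.trans ?_).trans (hψ₂ x)
    have := (x.2.map (Algebra.TensorProduct.productMap f₁ f₂))
    rw [map_sub, Algebra.TensorProduct.productMap_apply_tmul,
      Algebra.TensorProduct.productMap_apply_tmul, map_one, map_one, mul_one, one_mul] at this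
    exact sub_eq_zero.mp this.eq_zero
  · obtain ⟨Q, -, hQ, hQc⟩ := Ideal.exists_ideal_over_prime_of_isIntegral (S := E) p.asIdeal ⊥
      (fun a ha => by
        have : a = 0 := hinj ((congrArg Subtype.val ((Ideal.mem_bot).mp ha)).trans (map_zero _).symm)
        rw [this]; exact zero_mem _)
    exact ⟨⟨Q, hQ⟩, PrimeSpectrum.ext hQc⟩

end Groth.Agent.Lib.WeakNormal.Equalizer
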