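import Groth.Agent.Lib.WeakNormal.SnScheme
import Mathlib.AlgebraicGeometry.Morphisms.Proper
import Mathlib.AlgebraicGeometry.Morphisms.SchemeTheoreticallyDominant

/-!
Morphisms out of a universal homeomorphism factor through a finite universal homeomorphism.
-/

universe u

open CategoryTheory CategoryTheory.Limits AlgebraicGeometry

namespace Groth.Agent.Lib.WeakNormal.FiniteFactor

variable {X S T T' : Scheme.{u}}

/-- Factor `f ≫ g`, a universal homeomorphism, through a separated `g` when `f` is dominant. -/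
theorem of_comp_dominant {Z : Scheme.{u}} (f : T' ⟶ Z) (g : Z ⟶ T)
    (h : FlatMor.IsUnivHomeo (f ≫ g)) [IsSeparated g] [IsDominant f] :
    FlatMor.IsUnivHomeo f ∧ FlatMor.IsUnivHomeo g := by
  have : UniversallyClosed (f ≫ g) := UnivHomeo.Basic.universallyClosed h
  have : UniversallyClosed f := UniversallyClosed.of_comp_of_isSeparated f g
  have : Surjective f := ⟨fun z => by
    have := f.denseRange.closure_eq
    rw [f.isClosedMap.isClosed_range.closure_eq] at this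
    exact this.ge (Set.mem_univ z)⟩
  have hi : UniversallyInjective (f ≫ g) := UnivHomeo.Basic.universallyInjective h
  have : UniversallyInjective f := by
    have hi' : ∀ (K : Type u) [Field K],
        Function.Injective (fun a : Spec (.of K) ⟶ T' ↦ a ≫ f ≫ g) :=
      ((tfae_universallyInjective (f ≫ g)).out 0 1 rfl rfl).mp hi
    exact ((tfae_universallyInjective f).out 1 0 rfl rfl).mp fun K _ a b e =>
      hi' K (by simp only at e ⊢; rw [← Category.assoc, e, Category.assoc])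
  have hf := UnivHomeo.Basic.of_universallyClosed f
  exact ⟨hf, UnivHomeo.Basic.of_comp_left h hf⟩

theorem residueFieldsIso_of_comp_left {Z : Scheme.{u}} (f : T' ⟶ Z) (g : Z ⟶ T) [Surjective f]
    (hfg : HTop.ResidueFieldsIso (f ≫ g)) :
    HTop.ResidueFieldsIso f ∧ HTop.ResidueFieldsIso g := by
  have key : ∀ t, Function.Bijective (f.residueFieldMap t) ∧
      Function.Bijective (g.residueFieldMap (f t)) := fun t => by
    have h := ((ConcreteCategory.isIso_iff_bijective _).mp (hfg t))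
    rw [Scheme.residueFieldMap_comp] at h
    have h1 : Function.Bijective (f.residueFieldMap t) :=
      ⟨(f.residueFieldMap t).hom.injective, fun z => (h.2 z).elim fun w hw => ⟨_, hw⟩⟩
    refine ⟨h1, ⟨(g.residueFieldMap (f t)).hom.injective, fun z => ?_⟩⟩
    obtain ⟨w, hw⟩ := h.2 (f.residueFieldMap t z)
    exact ⟨w, h1.1 hw⟩
  refine ⟨fun t => (ConcreteCategory.isIso_iff_bijective _).mpr (key t).1, fun z => ?_⟩
  obtain ⟨t, rfl⟩ := f.surjective z
  exact (ConcreteCategory.isIso_iff_bijective _).mpr (key t).2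

theorem exists_factor [X.IsSeparated] (fX : X ⟶ S) [LocallyOfFiniteType fX] (fT : T ⟶ S)
    (ν : T' ⟶ T) (hν : FlatMor.IsUnivHomeo ν) (g : T' ⟶ X) (hg : g ≫ fX = ν ≫ fT) :
    ∃ (T₁ : Scheme.{u}) (π : T₁ ⟶ T) (_ : IsFinite π) (_ : FlatMor.IsUnivHomeo π)
      (g₁ : T₁ ⟶ X) (h : T' ⟶ T₁), h ≫ π = ν ∧ g₁ ≫ fX = π ≫ fT ∧ h ≫ g₁ = g ∧ Surjective h := by
  have : IsSeparated fX := by
    have : IsSeparated (fX ≫ terminal.from S) :=
      terminal.comp_from fX ▸ (inferInstance : IsSeparated (terminal.from X))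
    exact IsSeparated.of_comp fX (terminal.from S)
  let m : T' ⟶ pullback fX fT := pullback.lift g ν hg
  have hm : m ≫ pullback.snd fX fT = ν := pullback.lift_snd _ _ _
  have := UnivHomeo.Basic.isIntegralHom hν
  have : QuasiCompact m := by
    have : QuasiCompact (m ≫ pullback.snd fX fT) := hm.symm ▸ inferInstance
    exact QuasiCompact.of_comp m (pullback.snd fX fT)
  let π := m.imageι ≫ pullback.snd fX fT
  have hπ : m.toImage ≫ π = ν := by rw [Scheme.Hom.toImage_imageι_assoc, hm]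
  obtain ⟨h1, h2⟩ := of_comp_dominant m.toImage π (hπ.symm ▸ hν)
  exact ⟨m.image, π, UnivHomeo.Basic.isFinite h2, h2, m.imageι ≫ pullback.fst fX fT, m.toImage,
    hπ, by simp only [π, Category.assoc, pullback.condition],
    by rw [Scheme.Hom.toImage_imageι_assoc, pullback.lift_fst],
    UnivHomeo.Basic.surjective h1⟩

theorem isSchemeTheoreticallyDominant_toImage {A B : Scheme.{u}} (m : A ⟶ B) [QuasiCompact m] :
    IsSchemeTheoreticallyDominant m.toImage := by
  rw [isSchemeTheoreticallyDominant_iff]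
  refine Scheme.IdealSheafData.ext_of_iSup_eq_top
    (fun U : B.affineOpens => ⟨m.imageι ⁻¹ᵁ U.1, U.2.preimage m.imageι⟩) ?_ fun U => ?_
  · refine top_unique fun x _ => ?_
    obtain ⟨U, hU, hx, -⟩ := exists_isAffineOpen_mem_and_subset (X := B) (x := m.imageι x)
      (U := ⊤) trivial
    exact TopologicalSpace.Opens.mem_iSup.mpr ⟨⟨U, hU⟩, hx⟩
  · rw [Scheme.Hom.ker_apply, Scheme.IdealSheafData.ideal_bot, Pi.bot_apply]
    exact (RingHom.injective_iff_ker_eq_bot _).mp (m.toImage_app_injective U)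

theorem exists_common [X.IsSeparated] [T.IsSeparated] [AlgebraicGeometry.IsReduced T']
    {T₁ T₂ : Scheme.{u}} (π₁ : T₁ ⟶ T) (π₂ : T₂ ⟶ T) [IsFinite π₁] [IsFinite π₂] (ν : T' ⟶ T)
    (hν : FlatMor.IsUnivHomeo ν) (g₁ : T₁ ⟶ X) (g₂ : T₂ ⟶ X) (h₁ : T' ⟶ T₁) (h₂ : T' ⟶ T₂) (e₁ : h₁ ≫ π₁ = ν)
    (e₂ : h₂ ≫ π₂ = ν) (e : h₁ ≫ g₁ = h₂ ≫ g₂) :
    ∃ (T₃ : Scheme.{u}) (π₃ : T₃ ⟶ T) (_ : IsFinite π₃) (_ : FlatMor.IsUnivHomeo π₃)
      (a₁ : T₃ ⟶ T₁) (a₂ : T₃ ⟶ T₂) (h₃ : T' ⟶ T₃), a₁ ≫ π₁ = π₃ ∧ a₂ ≫ π₂ = π₃ ∧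
        a₁ ≫ g₁ = a₂ ≫ g₂ ∧ Surjective h₃ ∧ h₃ ≫ π₃ = ν := by
  let m : T' ⟶ pullback π₁ π₂ := pullback.lift h₁ h₂ (e₁.trans e₂.symm)
  have hm : m ≫ pullback.fst π₁ π₂ ≫ π₁ = ν := by rw [pullback.lift_fst_assoc, e₁]
  have := UnivHomeo.Basic.isIntegralHom hν
  have : QuasiCompact m := by
    have : QuasiCompact (m ≫ pullback.fst π₁ π₂ ≫ π₁) := hm.symm ▸ inferInstance
    exact QuasiCompact.of_comp m (pullback.fst π₁ π₂ ≫ π₁)
  let π₃ := m.imageι ≫ pullback.fst π₁ π₂ ≫ π₁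
  have hπ : m.toImage ≫ π₃ = ν := by rw [Scheme.Hom.toImage_imageι_assoc, hm]
  obtain ⟨h1, h2⟩ := of_comp_dominant m.toImage π₃ (hπ.symm ▸ hν)
  have : AlgebraicGeometry.IsReduced m.image := by
    have := isSchemeTheoreticallyDominant_toImage m
    exact IsSchemeTheoreticallyDominant.isReduced m.toImage
  refine ⟨m.image, π₃, inferInstance, h2, m.imageι ≫ pullback.fst π₁ π₂,
    m.imageι ≫ pullback.snd π₁ π₂, m.toImage, Category.assoc _ _ _,
    by simp only [π₃, Category.assoc, pullback.condition], ?_,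
    UnivHomeo.Basic.surjective h1, hπ⟩
  refine ext_of_isDominant m.toImage ?_
  simp only [Category.assoc, Scheme.Hom.toImage_imageι_assoc, m, pullback.lift_fst_assoc,
    pullback.lift_snd_assoc, e]

end Groth.Agent.Lib.WeakNormal.FiniteFactor
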