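import Groth.Agent.Lib.WeakNormal.SnScheme
import Groth.Agent.Lib.WeakNormal.AbsScheme

/-!
Universally closed, universally injective morphisms with residual sections at every point.
-/

universe u

open CategoryTheory CategoryTheory.Limits AlgebraicGeometry

namespace Groth.Agent.Lib.WeakNormal.PointSection

theorem residueFieldsIso_of_sections {P T : Scheme.{u}} (π : P ⟶ T) [UniversallyInjective π]
    (h : ∀ t : T, ∃ r : Spec (T.residueField t) ⟶ P, r ≫ π = T.fromSpecResidueField t) :
    HTop.ResidueFieldsIso π := by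
  intro q
  obtain ⟨r, hr⟩ := h (π q)
  obtain ⟨⟨q', φ⟩, ht⟩ :=
    (Scheme.SpecToEquivOfField (T.residueField (π q)) P).symm.surjective r
  change Spec.map φ ≫ P.fromSpecResidueField q' = r at ht
  have ht' : (Spec.map φ ≫ P.fromSpecResidueField q') ≫ π = T.fromSpecResidueField (π q) := by
    rw [ht, hr]
  obtain rfl : q' = q := π.injective (by
    have h1 := congrArg (fun k : Spec (T.residueField (π q)) ⟶ T =>
      k (IsLocalRing.closedPoint (T.residueField (π q)))) ht'
    simpa [Scheme.fromSpecResidueField_apply] using h1)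
  rw [Category.assoc, ← Scheme.Hom.SpecMap_residueFieldMap_fromSpecResidueField, ← Category.assoc,
    ← Spec.map_comp] at ht'
  have h3 := Spec.map_inj.mp ((cancel_mono (T.fromSpecResidueField (π q'))).mp (ht'.trans
    ((congrArg (fun k => k ≫ T.fromSpecResidueField (π q')) (Spec.map_id _)).trans
      (Category.id_comp _)).symm))
  exact (ConcreteCategory.isIso_iff_bijective _).mpr
    ⟨(π.residueFieldMap q').hom.injective,
      fun z' => ⟨φ z', φ.hom.injective (congr($h3 (φ z')))⟩⟩

theorem exists_lift {T X Y : Scheme.{u}} (hT : HTop.IsSeminormal T) (f : X ⟶ Y)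
    [UniversallyClosed f] [UniversallyInjective f] (g : T ⟶ Y)
    (hlift : ∀ t : T, ∃ l : Spec (T.residueField t) ⟶ X, l ≫ f = T.fromSpecResidueField t ≫ g) :
    ∃ h : T ⟶ X, h ≫ f = g := by
  let π := pullback.snd f g
  let i := (pullback f g).nilradical.subschemeι
  have hsec : ∀ t : T, ∃ r : Spec (T.residueField t) ⟶ pullback f g,
      r ≫ π = T.fromSpecResidueField t := fun t => by
    obtain ⟨l, hl⟩ := hlift t
    exact ⟨pullback.lift l (T.fromSpecResidueField t) hl, pullback.lift_snd _ _ _⟩
  have : Surjective π := ⟨fun t => by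
    obtain ⟨r, hr⟩ := hsec t
    refine ⟨r (IsLocalRing.closedPoint _), ?_⟩
    rw [← Scheme.Hom.comp_apply, hr]
    exact Scheme.fromSpecResidueField_apply _ _⟩
  have : UniversallyInjective π := MorphismProperty.pullback_snd _ _ ‹UniversallyInjective f›
  have : UniversallyClosed π := MorphismProperty.pullback_snd _ _ ‹UniversallyClosed f›
  have hπ : FlatMor.IsUnivHomeo π := UnivHomeo.Basic.of_universallyClosed π
  have hi := AbsScheme.isUnivHomeo_reduced (pullback f g)
  have := AbsScheme.isReduced_nilradical_subscheme (pullback f g)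
  have := SnScheme.isIso_of_isSeminormal hT (i ≫ π) (UnivHomeo.Basic.comp hi hπ)
    (SnScheme.residueFieldsIso_comp (SnScheme.residueFieldsIso_of_isClosedImmersion _)
      (residueFieldsIso_of_sections π hsec))
  refine ⟨inv (i ≫ π) ≫ i ≫ pullback.fst f g, ?_⟩
  rw [Category.assoc, Category.assoc, pullback.condition, IsIso.inv_comp_eq, Category.assoc]

end Groth.Agent.Lib.WeakNormal.PointSection
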