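import Groth.Agent.Lib.WeakNormal.SnScheme
import Mathlib.AlgebraicGeometry.Morphisms.Proper
import Mathlib.AlgebraicGeometry.ResidueField
import Mathlib.LinearAlgebra.Basis.VectorSpace
import Mathlib.RingTheory.Flat.Basic

/-!
Descent of global functions along universally closed surjections onto seminormal schemes.
-/

universe u

open CategoryTheory CategoryTheory.Limits AlgebraicGeometry TensorProduct Opposite

namespace Groth.Agent.Lib.WeakNormal.ProperDescent

theorem exists_eq_algebraMap {K L M : Type u} [Field K] [CommRing L] [CommRing M] [Algebra K L]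
    [Algebra K M] [Nontrivial L] [Nontrivial M] {a : L} {b : M}
    (h : a ⊗ₜ[K] (1 : M) = (1 : L) ⊗ₜ[K] b) :
    ∃ c : K, algebraMap K L c = a ∧ algebraMap K M c = b := by
  obtain ⟨φ, hφ⟩ := LinearMap.exists_leftInverse_of_injective (Algebra.linearMap K M)
    (LinearMap.ker_eq_bot.mpr (algebraMap K M).injective)
  obtain ⟨ψ, hψ⟩ := LinearMap.exists_leftInverse_of_injective (Algebra.linearMap K L)
    (LinearMap.ker_eq_bot.mpr (algebraMap K L).injective)
  have hφ1 : φ 1 = 1 := by simpa using DFunLike.congr_fun hφ 1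
  have hψ1 : ψ 1 = 1 := by simpa using DFunLike.congr_fun hψ 1
  have h₁ := congrArg (fun z => TensorProduct.rid K L (φ.lTensor L z)) h
  have h₂ := congrArg (fun z => TensorProduct.lid K M (ψ.rTensor M z)) h
  simp only [LinearMap.lTensor_tmul, LinearMap.rTensor_tmul, TensorProduct.rid_tmul,
    TensorProduct.lid_tmul, hφ1, hψ1, one_smul] at h₁ h₂
  refine ⟨φ b, ?_, ?_⟩
  · rw [h₁, Algebra.algebraMap_eq_smul_one]
  · have : ψ a = φ b := by rw [h₁, map_smul, hψ1, smul_eq_mul, mul_one]
    rw [← this, Algebra.algebraMap_eq_smul_one, h₂]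

theorem exists_common {K L M : Type u} [Field K] [Field L] [Field M] (i₁ : K →+* L) (i₂ : K →+* M)
    (a : L) (b : M)
    (h : ∀ (T : Type u) [CommRing T] (k₁ : L →+* T) (k₂ : M →+* T),
      k₁.comp i₁ = k₂.comp i₂ → k₁ a = k₂ b) :
    ∃ c : K, i₁ c = a ∧ i₂ c = b := by
  let := i₁.toAlgebra
  let := i₂.toAlgebra
  exact exists_eq_algebraMap (h (L ⊗[K] M) Algebra.TensorProduct.includeLeftRingHom
    Algebra.TensorProduct.includeRight.toRingHom
    (RingHom.ext fun c => Algebra.TensorProduct.tmul_one_eq_one_tmul c))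

variable {X Y : Scheme.{u}}

theorem exists_residueFieldMap (f : Y ⟶ X) {y : Y} {x : X} (h : f y = x) :
    ∃ i : X.residueField x ⟶ Y.residueField y,
      Spec.map i ≫ X.fromSpecResidueField x = Y.fromSpecResidueField y ≫ f := by
  subst h
  exact ⟨_, Scheme.Hom.SpecMap_residueFieldMap_fromSpecResidueField ..⟩

theorem residueFieldMap_unique (f : Y ⟶ X) {y : Y} {i : X.residueField (f y) ⟶ Y.residueField y}
    (hi : Spec.map i ≫ X.fromSpecResidueField (f y) = Y.fromSpecResidueField y ≫ f) :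
    i = f.residueFieldMap y := by
  rw [← Scheme.Hom.SpecMap_residueFieldMap_fromSpecResidueField] at hi
  exact Spec.map_inj.mp ((cancel_mono _).mp hi)

/-- Evaluation at all points. -/
noncomputable def evAll (Y : Scheme.{u}) : Γ(Y, ⊤) →+* ∀ y : Y, Y.residueField y :=
  RingHom.pi fun y => (Y.Γevaluation y).hom

/-- The residue field maps at all points. -/
noncomputable def resAll (f : Y ⟶ X) : (∀ x : X, X.residueField x) →+* ∀ y : Y, Y.residueField y :=
  RingHom.pi fun y => (f.residueFieldMap y).hom.comp (Pi.evalRingHom _ (f y))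

/-- Functions whose values descend to the residue fields of the target. -/
noncomputable def descending (f : Y ⟶ X) : Subring Γ(Y, ⊤) :=
  (resAll f).range.comap (evAll Y)

theorem mem_descending_iff {f : Y ⟶ X} {s : Γ(Y, ⊤)} :
    s ∈ descending f ↔
      ∃ g : ∀ x : X, X.residueField x, ∀ y, f.residueFieldMap y (g (f y)) = Y.Γevaluation y s :=
  ⟨fun ⟨g, hg⟩ => ⟨g, fun y => congrFun hg y⟩, fun ⟨g, hg⟩ => ⟨g, funext hg⟩⟩

theorem appTop_mem_descending (f : Y ⟶ X) (a : Γ(X, ⊤)) : f.appTop a ∈ descending f :=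
  mem_descending_iff.mpr ⟨fun x => X.Γevaluation x a,
    fun y => Scheme.Γevaluation_naturality_apply f y a⟩

theorem Γevaluation_fromSpecResidueField {L : CommRingCat.{u}} (y : Y)
    (k : Y.residueField y ⟶ L) (s : Γ(Y, ⊤)) :
    (Scheme.ΓSpecIso L).hom ((Spec.map k ≫ Y.fromSpecResidueField y).appTop s) =
      k (Y.Γevaluation y s) := by
  rw [← CommRingCat.comp_apply, ← CommRingCat.comp_apply]
  congr 2
  rw [Scheme.Hom.comp_appTop, Category.assoc, Scheme.ΓSpecIso_naturality]
  rw [← Category.assoc]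
  congr 1
  rw [Scheme.fromSpecResidueField, Scheme.Hom.comp_appTop, Category.assoc,
    Scheme.ΓSpecIso_naturality, Scheme.fromSpecStalk_appTop]
  simp only [Category.assoc, homOfLE_refl, op_id, CategoryTheory.Functor.map_id,
    Category.id_comp, Iso.inv_hom_id_assoc]
  rfl

theorem mem_descending_of_pullback_eq (f : Y ⟶ X) [Surjective f] (s : Γ(Y, ⊤))
    (hs : (pullback.fst f f).appTop s = (pullback.snd f f).appTop s) : s ∈ descending f := by
  have key : ∀ (x : X) (y₁ y₂ : Y) (i₁ : X.residueField x ⟶ Y.residueField y₁)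
      (i₂ : X.residueField x ⟶ Y.residueField y₂),
      Spec.map i₁ ≫ X.fromSpecResidueField x = Y.fromSpecResidueField y₁ ≫ f →
      Spec.map i₂ ≫ X.fromSpecResidueField x = Y.fromSpecResidueField y₂ ≫ f →
      ∃ c, i₁ c = Y.Γevaluation y₁ s ∧ i₂ c = Y.Γevaluation y₂ s := by
    intro x y₁ y₂ i₁ i₂ h₁ h₂
    refine exists_common i₁.hom i₂.hom _ _ fun T _ l₁ l₂ hl => ?_
    let k₁ : Y.residueField y₁ ⟶ CommRingCat.of T := CommRingCat.ofHom l₁
    let k₂ : Y.residueField y₂ ⟶ CommRingCat.of T := CommRingCat.ofHom l₂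
    have hk : i₁ ≫ k₁ = i₂ ≫ k₂ := CommRingCat.hom_ext hl
    have hw : (Spec.map k₁ ≫ Y.fromSpecResidueField y₁) ≫ f =
        (Spec.map k₂ ≫ Y.fromSpecResidueField y₂) ≫ f := by
      rw [Category.assoc, Category.assoc, ← h₁, ← h₂, ← Spec.map_comp_assoc, hk, Spec.map_comp_assoc]
    have e := congrArg
      (fun z => (Scheme.ΓSpecIso _).hom ((pullback.lift _ _ hw).appTop z)) hs
    simp only [← CommRingCat.comp_apply (f := (pullback.fst f f).appTop),
      ← CommRingCat.comp_apply (f := (pullback.snd f f).appTop), ← Scheme.Hom.comp_appTop,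
      pullback.lift_fst, pullback.lift_snd] at e
    rw [Γevaluation_fromSpecResidueField, Γevaluation_fromSpecResidueField] at e
    exact e
  choose y₀ hy₀ using f.surjective
  choose i₀ hi₀ using fun x => exists_residueFieldMap f (hy₀ x)
  choose g hg using fun x => key x (y₀ x) (y₀ x) (i₀ x) (i₀ x) (hi₀ x) (hi₀ x)
  refine mem_descending_iff.mpr ⟨g, fun y => ?_⟩
  obtain ⟨c, hc₀, hc⟩ := key (f y) (y₀ (f y)) y (i₀ (f y)) (f.residueFieldMap y) (hi₀ _)
    (Scheme.Hom.SpecMap_residueFieldMap_fromSpecResidueField ..)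
  rw [← hc]
  congr 1
  exact (i₀ (f y)).hom.injective ((hg (f y)).1.trans hc₀.symm)

theorem exists_frac {Z : Scheme.{u}} [IsAffine Z] (q : Z) (w : Z.residueField q) :
    ∃ a b : Γ(Z, ⊤), Z.Γevaluation q b ≠ 0 ∧ w * Z.Γevaluation q b = Z.Γevaluation q a := by
  obtain ⟨v, rfl⟩ := IsLocalRing.residue_surjective w
  let hq : q ∈ (⊤ : Z.Opens) := trivial
  let := TopCat.Presheaf.algebra_section_stalk Z.presheaf (⟨q, hq⟩ : (⊤ : Z.Opens))
  have := (isAffineOpen_top Z).isLocalization_stalk ⟨q, hq⟩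
  obtain ⟨⟨a, b⟩, hab⟩ := IsLocalization.surj
    ((isAffineOpen_top Z).primeIdealOf ⟨q, hq⟩).asIdeal.primeCompl v
  refine ⟨a, b.1, ?_, ?_⟩
  · exact ((IsLocalization.map_units (Z.presheaf.stalk q) b).map
      (IsLocalRing.residue (Z.presheaf.stalk q))).ne_zero
  · exact (map_mul (IsLocalRing.residue (Z.presheaf.stalk q)) _ _).symm.trans (congrArg _ hab)

theorem eq_of_evaluation {Z : Scheme.{u}} [IsAffine Z] {q₁ q₂ : Z}
    (h : ∀ a, Z.Γevaluation q₁ a = 0 ↔ Z.Γevaluation q₂ a = 0) : q₁ = q₂ := by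
  have key : ∀ p₁ p₂ : Z, (∀ a, Z.Γevaluation p₁ a = 0 ↔ Z.Γevaluation p₂ a = 0) → p₁ ⤳ p₂ :=
    fun p₁ p₂ h => specializes_iff_forall_open.mpr fun o ho hp => by
      obtain ⟨_, ⟨a, rfl⟩, hpa, hsub⟩ :=
        TopologicalSpace.Opens.isBasis_iff_nbhd.mp (isBasis_basicOpen Z)
          (show p₂ ∈ (⟨o, ho⟩ : Z.Opens) from hp)
      refine hsub ?_
      by_contra hn
      exact (Z.evaluation_eq_zero_iff_notMem_basicOpen (U := ⊤) p₂ trivial a).mp
        ((h a).mp ((Z.evaluation_eq_zero_iff_notMem_basicOpen (U := ⊤) p₁ trivial a).mpr hn)) hpa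
  exact ((key q₁ q₂ h).antisymm (key q₂ q₁ fun a => (h a).symm)).eq

theorem isIso_of_descending {Z : Scheme.{u}} [IsAffine Z] [AlgebraicGeometry.IsReduced Z]
    (σ : Y ⟶ Z) [Surjective σ] (ω : Z ⟶ X) [UniversallyClosed ω] [Surjective ω]
    (hX : HTop.IsSeminormal X) (hD : ∀ a : Γ(Z, ⊤), σ.appTop a ∈ descending (σ ≫ ω)) :
    IsIso ω := by
  have hinj : Function.Injective ω := by
    intro q₁ q₂ hq
    obtain ⟨y₁, rfl⟩ := σ.surjective q₁
    obtain ⟨y₂, rfl⟩ := σ.surjective q₂
    refine eq_of_evaluation fun a => ?_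
    obtain ⟨g, hg⟩ := mem_descending_iff.mp (hD a)
    have hev : ∀ y, Z.Γevaluation (σ y) a = 0 ↔ g ((σ ≫ ω) y) = 0 := fun y => by
      rw [← map_eq_zero (σ.residueFieldMap y).hom, ← map_eq_zero ((σ ≫ ω).residueFieldMap y).hom,
        hg y, Scheme.Γevaluation_naturality_apply σ y a]
    rw [hev y₁, hev y₂]
    have e : (σ ≫ ω) y₁ = (σ ≫ ω) y₂ := hq
    exact (congrArg (fun x => g x = 0) e).to_iff
  have hres : HTop.ResidueFieldsIso ω := by
    refine (SnScheme.residueFieldsIso_iff ω).mpr fun q w => ?_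
    obtain ⟨y, rfl⟩ := σ.surjective q
    obtain ⟨a, b, hb, hab⟩ := exists_frac (σ y) w
    obtain ⟨ga, hga⟩ := mem_descending_iff.mp (hD a)
    obtain ⟨gb, hgb⟩ := mem_descending_iff.mp (hD b)
    refine ⟨ga (ω (σ y)) / gb (ω (σ y)), (σ.residueFieldMap y).hom.injective ?_⟩
    have ha : σ.residueFieldMap y (ω.residueFieldMap (σ y) (ga (ω (σ y)))) =
        σ.residueFieldMap y (Z.Γevaluation (σ y) a) := by
      rw [Scheme.Γevaluation_naturality_apply σ y a]
      have := hga y
      rw [Scheme.residueFieldMap_comp] at this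
      exact this
    have hb' : σ.residueFieldMap y (ω.residueFieldMap (σ y) (gb (ω (σ y)))) =
        σ.residueFieldMap y (Z.Γevaluation (σ y) b) := by
      rw [Scheme.Γevaluation_naturality_apply σ y b]
      have := hgb y
      rw [Scheme.residueFieldMap_comp] at this
      exact this
    have ha' := (σ.residueFieldMap y).hom.injective ha
    have hb'' := (σ.residueFieldMap y).hom.injective hb'
    congr 1
    rw [map_div₀, div_eq_iff (hb''.symm ▸ hb)]
    exact ha'.trans ((hab).symm.trans (congrArg (w * ·) hb''.symm))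
  have hui : UniversallyInjective ω := by
    refine ((tfae_universallyInjective ω).out 2 0 rfl rfl).mp ⟨hinj, fun q => ?_⟩
    algebraize [(ω.residueFieldMap q).hom]
    rw [RingHom.IsPurelyInseparable, isPurelyInseparable_iff_pow_mem _
      (ringExpChar (X.residueField (ω q)))]
    intro z
    exact ⟨0, by rw [pow_zero, pow_one]; exact ((ConcreteCategory.isIso_iff_bijective _).mp (hres q)).2 z⟩
  exact SnScheme.isIso_of_isSeminormal hX ω (UnivHomeo.Basic.of_universallyClosed ω) hres

theorem app_injective (f : Y ⟶ X) [Surjective f] [AlgebraicGeometry.IsReduced X] (U : X.Opens) :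
    Function.Injective (f.app U) := by
  rw [injective_iff_map_eq_zero]
  intro t ht
  rw [← basicOpen_eq_bot_iff, Scheme.basicOpen_eq_bot_iff_forall_evaluation_eq_zero]
  intro x
  obtain ⟨y, hy⟩ := f.surjective x.1
  obtain ⟨x, hx⟩ := x
  subst hy
  refine (f.residueFieldMap y).hom.injective ?_
  rw [map_zero, Scheme.evaluation_naturality_apply f y hx t, ht, map_zero]

theorem exists_appTop_eq_of_mem_descending [IsAffine X] (hX : HTop.IsSeminormal X) (f : Y ⟶ X)
    [UniversallyClosed f] [Surjective f] [AlgebraicGeometry.IsReduced Y] (s : Γ(Y, ⊤))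
    (hsd : s ∈ descending f) : ∃ t, f.appTop t = s := by
  let := f.appTop.hom.toAlgebra
  let C := Algebra.adjoin Γ(X, ⊤) ({s} : Set Γ(Y, ⊤))
  let incl : CommRingCat.of C ⟶ Γ(Y, ⊤) := CommRingCat.ofHom C.val.toRingHom
  let alg : Γ(X, ⊤) ⟶ CommRingCat.of C := CommRingCat.ofHom (algebraMap Γ(X, ⊤) C)
  let σ : Y ⟶ Spec (CommRingCat.of C) := Y.toSpecΓ ≫ Spec.map incl
  let ω : Spec (CommRingCat.of C) ⟶ X := Spec.map alg ≫ X.isoSpec.inv
  have hσω : σ ≫ ω = f := by
    simp only [σ, ω, Category.assoc]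
    rw [← Spec.map_comp_assoc, ← Category.assoc, Iso.comp_inv_eq]
    exact (Scheme.toSpecΓ_naturality f).symm
  have hint : Algebra.IsIntegral Γ(X, ⊤) C := ⟨fun c =>
    (isIntegral_algHom_iff C.val Subtype.val_injective).mp
      (isIntegral_appTop_of_universallyClosed f c.1)⟩
  have hω : IsIntegralHom ω := by
    have : IsIntegralHom (Spec.map alg) :=
      IsIntegralHom.SpecMap_iff.mpr (algebraMap_isIntegral_iff.mpr hint)
    infer_instance
  have : _root_.IsReduced C := isReduced_of_injective C.val Subtype.val_injective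
  have : AlgebraicGeometry.IsReduced (Spec (CommRingCat.of C)) := inferInstance
  have hu : UniversallyClosed (σ ≫ ω) := by rw [hσω]; infer_instance
  have : UniversallyClosed σ := .of_comp_of_isSeparated σ ω
  have hσappTop : ∀ c : C,
      σ.appTop ((Scheme.ΓSpecIso (CommRingCat.of C)).inv c) = (c : Γ(Y, ⊤)) := fun c => by
    rw [← CommRingCat.comp_apply]
    simp only [σ, Scheme.Hom.comp_appTop, Scheme.toSpecΓ_appTop]
    rw [Scheme.ΓSpecIso_naturality, Iso.inv_hom_id_assoc]
    rfl
  have : IsDominant σ := by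
    refine ⟨(PrimeSpectrum.isTopologicalBasis_basic_opens (R := C)).dense_iff.mpr ?_⟩
    rintro _ ⟨c, rfl⟩ ⟨p, hp⟩
    by_contra hn
    refine hp (?_ : c ∈ (p : PrimeSpectrum C).asIdeal)
    have h0 : (c : Γ(Y, ⊤)) = 0 := by
      rw [← hσappTop, ← basicOpen_eq_bot_iff, ← Scheme.preimage_basicOpen_top,
        basicOpen_eq_of_affine]
      ext y
      simp only [TopologicalSpace.Opens.coe_bot, Set.mem_empty_iff_false, iff_false]
      exact fun hy => hn ⟨σ y, hy, y, rfl⟩
    rw [show c = 0 from Subtype.ext h0]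
    exact zero_mem _
  have : Surjective σ := ⟨Set.range_eq_univ.mp
    (σ.isClosedMap.isClosed_range.closure_eq.symm.trans (σ.denseRange.closure_eq))⟩
  have hs' : Surjective (σ ≫ ω) := by rw [hσω]; infer_instance
  have : Surjective ω := Surjective.of_comp σ ω
  have hle : ∀ c : C, (c : Γ(Y, ⊤)) ∈ descending f := by
    rintro ⟨c, hc⟩
    induction hc using Algebra.adjoin_induction with
    | mem z hz => obtain rfl := Set.mem_singleton_iff.mp hz; exact hsd
    | algebraMap a => exact appTop_mem_descending f a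
    | add _ _ _ _ ha hb => exact add_mem ha hb
    | mul _ _ _ _ ha hb => exact mul_mem ha hb
  have hiso : IsIso ω := isIso_of_descending σ ω hX fun a => by
    rw [hσω, ← Iso.hom_inv_id_apply (Scheme.ΓSpecIso (CommRingCat.of C)) a, hσappTop]
    exact hle _
  let z := (Scheme.ΓSpecIso (CommRingCat.of C)).inv ⟨s, Algebra.self_mem_adjoin_singleton _ s⟩
  have : IsIso ω.appTop := inferInstanceAs (IsIso (ω.app ⊤))
  obtain ⟨t, ht⟩ := (ConcreteCategory.bijective_of_isIso ω.appTop).2 z
  refine ⟨t, ?_⟩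
  rw [← hσω, Scheme.Hom.comp_appTop, CommRingCat.comp_apply, ht]
  exact hσappTop _

theorem exists_appTop_eq [IsAffine X] (hX : HTop.IsSeminormal X) (f : Y ⟶ X) [UniversallyClosed f]
    [Surjective f] [AlgebraicGeometry.IsReduced Y] (s : Γ(Y, ⊤))
    (hs : (pullback.fst f f).appTop s = (pullback.snd f f).appTop s) :
    ∃ t, f.appTop t = s :=
  exists_appTop_eq_of_mem_descending hX f s (mem_descending_of_pullback_eq f s hs)

end Groth.Agent.Lib.WeakNormal.ProperDescent
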