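import Groth.Agent.Lib.UnivHomeo.Basic
import Mathlib.AlgebraicGeometry.ResidueField
import Groth.Prelude.Def_HTop2

/-!
Residue field maps of `Spec` maps, and residue fields of weak normalizations.
-/

universe u

open CategoryTheory AlgebraicGeometry

namespace Groth.Agent.Lib.WeakNormal.ResidueField

theorem map_map {A B C : Type u} [CommRing A] [CommRing B] [CommRing C] {I : Ideal A} [I.IsPrime]
    {J : Ideal B} [J.IsPrime] {K : Ideal C} [K.IsPrime] (f : A →+* B) (hf : I = J.comap f)
    (g : B →+* C) (hg : J = K.comap g) (h : A →+* C) (hh : I = K.comap h) (hfg : g.comp f = h) :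
    (Ideal.ResidueField.map J K g hg).comp (Ideal.ResidueField.map I J f hf) =
      Ideal.ResidueField.map I K h hh := by
  subst hfg
  refine Ideal.ResidueField.ringHom_ext (RingHom.ext fun a => ?_)
  simp only [RingHom.comp_apply, Ideal.ResidueField.map_algebraMap]

theorem residueFieldMap_residueFieldIso {A C : CommRingCat.{u}} (φ : A ⟶ C) (y : Spec C)
    (hf : (Spec.map φ y).asIdeal = y.asIdeal.comap φ.hom) :
    (Spec.map φ).residueFieldMap y ≫ (Scheme.Spec.residueFieldIso C y).hom =
      (Scheme.Spec.residueFieldIso A (Spec.map φ y)).hom ≫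
        CommRingCat.ofHom
          (Ideal.ResidueField.map (Spec.map φ y).asIdeal y.asIdeal φ.hom hf) := by
  rw [← Iso.eq_comp_inv, Category.assoc, ← Iso.inv_comp_eq]
  have key : CommRingCat.ofHom (algebraMap A (Spec.map φ y).asIdeal.ResidueField) ≫
        (Scheme.Spec.residueFieldIso A (Spec.map φ y)).inv ≫ (Spec.map φ).residueFieldMap y =
      φ ≫ CommRingCat.ofHom (algebraMap C y.asIdeal.ResidueField) ≫
          (Scheme.Spec.residueFieldIso C y).inv := by
    rw [Scheme.Spec.algebraMap_residueFieldIso_inv_assoc,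
      Scheme.Spec.algebraMap_residueFieldIso_inv C y, Scheme.germ_residue,
      Scheme.germ_residue_assoc, Scheme.ΓSpecIso_inv_naturality_assoc]
    exact congrArg (fun k => (Scheme.ΓSpecIso A).inv ≫ k)
      (Scheme.evaluation_naturality (Spec.map φ) y (V := ⊤) trivial)
  have key2 : CommRingCat.ofHom (algebraMap A (Spec.map φ y).asIdeal.ResidueField) ≫
      CommRingCat.ofHom (Ideal.ResidueField.map (Spec.map φ y).asIdeal y.asIdeal φ.hom hf) =
      φ ≫ CommRingCat.ofHom (algebraMap C y.asIdeal.ResidueField) :=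
    CommRingCat.hom_ext (RingHom.ext fun a => Ideal.ResidueField.map_algebraMap _ _ _ hf a)
  refine CommRingCat.hom_ext (Ideal.ResidueField.ringHom_ext ?_)
  have e := key.trans ((Category.assoc _ _ _).symm.trans
    ((congrArg (fun k => k ≫ (Scheme.Spec.residueFieldIso C y).inv) key2.symm).trans
      (Category.assoc _ _ _)))
  exact congrArg CommRingCat.Hom.hom e

theorem bijective_of_exists {K L M : Type u} [Field K] [Field L] [Field M] (e : ℕ) [ExpChar K e]
    (i : K →+* L) (hi : i.IsPurelyInseparable) (j : L →+* M)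
    (hM : ∀ x, (∃ n : ℕ, x ^ e ^ n ∈ Set.range (j.comp i)) → x ∈ Set.range (j.comp i)) :
    Function.Bijective i := by
  refine ⟨i.injective, fun z => ?_⟩
  let := i.toAlgebra
  have : IsPurelyInseparable K L := hi
  obtain ⟨n, c, hc⟩ := IsPurelyInseparable.pow_mem K e z
  obtain ⟨d, hd⟩ := hM (j z) ⟨n, c, by rw [← map_pow, ← hc]; rfl⟩
  exact ⟨d, j.injective hd⟩

theorem residueFieldsIso {A B : Type u} [CommRing A] [CommRing B] [Algebra A B]
    (hpi : ∀ p : PrimeSpectrum A, ∃ q : PrimeSpectrum B,
      ∃ hq : p.asIdeal = Ideal.comap (algebraMap A B) q.asIdeal,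
      ∀ x : q.asIdeal.ResidueField,
        (∃ n : ℕ, x ^ ringExpChar p.asIdeal.ResidueField ^ n ∈
            Set.range (Ideal.ResidueField.map p.asIdeal q.asIdeal (algebraMap A B) hq)) →
        x ∈ Set.range (Ideal.ResidueField.map p.asIdeal q.asIdeal (algebraMap A B) hq))
    (C : Subalgebra A B) (hC : FlatMor.IsUnivHomeo (Spec.map (CommRingCat.ofHom (algebraMap A C)))) :
    HTop.ResidueFieldsIso (Spec.map (CommRingCat.ofHom (algebraMap A C))) := by
  intro y
  have hui := UnivHomeo.Basic.universallyInjective hC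
  obtain ⟨hinjf, hpiy⟩ := ((tfae_universallyInjective _).out 0 2 rfl rfl).mp hui
  set f := CommRingCat.ofHom (algebraMap A C)
  obtain ⟨q, hq, hx⟩ := hpi (Spec.map f y)
  have hyq : y.asIdeal = q.asIdeal.comap C.val.toRingHom := by
    have h1 : y = ⟨q.asIdeal.comap C.val.toRingHom, inferInstance⟩ := hinjf (PrimeSpectrum.ext (by
      rw [hq]
      rfl))
    exact congrArg PrimeSpectrum.asIdeal h1
  let θA := (Scheme.Spec.residueFieldIso (CommRingCat.of A) (Spec.map f y)).commRingCatIsoToRingEquiv
  let θC := (Scheme.Spec.residueFieldIso (CommRingCat.of C) y).commRingCatIsoToRingEquiv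
  let i := ((Spec.map f).residueFieldMap y).hom
  let j := (Ideal.ResidueField.map y.asIdeal q.asIdeal C.val.toRingHom hyq).comp θC.toRingHom
  have hji : j.comp i =
      (Ideal.ResidueField.map (Spec.map f y).asIdeal q.asIdeal (algebraMap A B) hq).comp
        θA.toRingHom := by
    refine RingHom.ext fun w => ?_
    have h2 := congr($(residueFieldMap_residueFieldIso f y rfl) w)
    refine (congrArg (Ideal.ResidueField.map y.asIdeal q.asIdeal C.val.toRingHom hyq) h2).trans ?_
    exact DFunLike.congr_fun
      (map_map (algebraMap A C) rfl C.val.toRingHom hyq (algebraMap A B) hq rfl) (θA w)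
  have := ringExpChar.expChar (R := (Spec.map f y).asIdeal.ResidueField)
  have : ExpChar ((Spec (CommRingCat.of A)).residueField (Spec.map f y))
      (ringExpChar (Spec.map f y).asIdeal.ResidueField) :=
    expChar_of_injective_ringHom θA.symm.toRingHom.injective _
  have hb := bijective_of_exists (ringExpChar (Spec.map f y).asIdeal.ResidueField) i (hpiy y) j
    fun x hxr => by
      obtain ⟨n, w, hw⟩ := hxr
      obtain ⟨d, hd⟩ := hx x ⟨n, θA w, by rw [← hw, hji]; rfl⟩
      refine ⟨θA.symm d, ?_⟩
      rw [hji, ← hd]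
      exact congrArg _ (θA.apply_symm_apply d)
  exact (ConcreteCategory.isIso_iff_bijective _).mpr hb

end Groth.Agent.Lib.WeakNormal.ResidueField
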