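import Groth.Agent.Lib.WeakNormal.AbsChar
import Groth.Agent.Lib.WeakNormal.ResidueField
import Groth.Agent.S7398

/-!
The seminormalization of a ring: inside the product of all residue fields, the supremum of all
subalgebras which are universally homeomorphic to `A`.
-/

universe u

open CategoryTheory AlgebraicGeometry

namespace Groth.Agent.Lib.WeakNormal.SnChar

open AbsExists

variable {A : Type u} [CommRing A]

theorem exists_point_residue (D : Subalgebra A (∀ p : PrimeSpectrum A, p.asIdeal.ResidueField))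
    (p : PrimeSpectrum A) :
    ∃ q : PrimeSpectrum D, PrimeSpectrum.comap (algebraMap A D) q = p ∧
      q.asIdeal = RingHom.ker
        ((Pi.evalRingHom (fun p : PrimeSpectrum A => p.asIdeal.ResidueField) p).comp
          D.val.toRingHom) := by
  refine ⟨⟨_, RingHom.ker_isPrime
    ((Pi.evalRingHom (fun p : PrimeSpectrum A => p.asIdeal.ResidueField) p).comp D.val.toRingHom)⟩,
    PrimeSpectrum.ext (Ideal.ext fun a => ?_), rfl⟩
  show algebraMap A p.asIdeal.ResidueField a = 0 ↔ a ∈ p.asIdeal
  rw [Ideal.algebraMap_residueField_eq_zero]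

variable (A)

/-- The seminormalization, as a subalgebra of the product of the residue fields. -/
noncomputable def sn : Subalgebra A (∀ p : PrimeSpectrum A, p.asIdeal.ResidueField) :=
  sSup {D | FlatMor.IsUnivHomeo (Spec.map (CommRingCat.ofHom (algebraMap A D)))}

variable {A}

theorem le_sn {D : Subalgebra A (∀ p : PrimeSpectrum A, p.asIdeal.ResidueField)}
    (h : FlatMor.IsUnivHomeo (Spec.map (CommRingCat.ofHom (algebraMap A D)))) : D ≤ sn A :=
  le_sSup h

theorem isUnivHomeo_sn :
    FlatMor.IsUnivHomeo (Spec.map (CommRingCat.ofHom (algebraMap A (sn A)))) := by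
  refine isUnivHomeo_iff.mpr ⟨?_, universallyInjective_of_algHom_ext fun K _ φ ψ e => ?_,
    fun p => (exists_point_residue (sn A) p).imp fun _ h => h.1⟩
  · have : sn A ≤ integralClosure A _ := sSup_le fun D hD x hx =>
      ((isUnivHomeo_iff.mp hD).1.isIntegral (⟨x, hx⟩ : D)).map D.val
    exact ⟨fun x => (isIntegral_algHom_iff (sn A).val Subtype.val_injective).mp (this x.2)⟩
  · let E : Subalgebra A (sn A) :=
      { __ := RingHom.eqLocus φ ψ
        algebraMap_mem' := fun a => DFunLike.congr_fun e a }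
    have : sn A ≤ E.map (sn A).val := sSup_le fun D hD x hx => by
      refine ⟨⟨x, le_sn hD hx⟩, ?_, rfl⟩
      exact DFunLike.congr_fun (ringHom_ext_of_univHomeo
        (φ := φ.comp (Subalgebra.inclusion (le_sn hD)).toRingHom)
        (ψ := ψ.comp (Subalgebra.inclusion (le_sn hD)).toRingHom) hD
        (RingHom.ext fun a => DFunLike.congr_fun e a)) (⟨x, hx⟩ : D)
    refine RingHom.ext fun x => ?_
    obtain ⟨y, hy, hyx⟩ := this x.2
    rwa [show y = x from Subtype.ext hyx] at hy

theorem bijective_of_leftInverse {K L M : Type u} [Field K] [Field L] [Field M] (i : K →+* L)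
    (j : L →+* M) (h : Function.Surjective (j.comp i)) : Function.Bijective i :=
  ⟨i.injective, fun z => (h (j z)).imp fun _ hw => j.injective hw⟩

theorem residueFieldsIso_subalgebra (D : Subalgebra A (∀ p : PrimeSpectrum A, p.asIdeal.ResidueField))
    (h : FlatMor.IsUnivHomeo (Spec.map (CommRingCat.ofHom (algebraMap A D)))) :
    HTop.ResidueFieldsIso (Spec.map (CommRingCat.ofHom (algebraMap A D))) := by
  intro y
  set f := CommRingCat.ofHom (algebraMap A D)
  let p := Spec.map f y
  obtain ⟨q, hq, hqe⟩ := exists_point_residue D p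
  have hfu : UniversallyInjective (Spec.map f) := UnivHomeo.Basic.universallyInjective h
  obtain rfl : q = y := (Spec.map f).injective hq
  let ev := (Pi.evalRingHom (fun p : PrimeSpectrum A => p.asIdeal.ResidueField) p).comp
    D.val.toRingHom
  let k : q.asIdeal.ResidueField →+* p.asIdeal.ResidueField :=
    Ideal.ResidueField.lift q.asIdeal ev hqe.le fun x hx => by
      refine isUnit_iff_ne_zero.mpr fun h0 => hx ?_
      rw [hqe]
      exact h0
  have hk : k.comp (Ideal.ResidueField.map p.asIdeal q.asIdeal (algebraMap A D) rfl) =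
      RingHom.id _ := by
    refine Ideal.ResidueField.ringHom_ext (RingHom.ext fun a => ?_)
    simp only [RingHom.comp_apply, Ideal.ResidueField.map_algebraMap, k,
      Ideal.ResidueField.lift_algebraMap, RingHom.id_apply]
    rfl
  let θC := (Scheme.Spec.residueFieldIso (CommRingCat.of D) q).commRingCatIsoToRingEquiv
  let θA := (Scheme.Spec.residueFieldIso (CommRingCat.of A) p).commRingCatIsoToRingEquiv
  refine (ConcreteCategory.isIso_iff_bijective _).mpr
    (bijective_of_leftInverse _ (k.comp θC.toRingHom) fun z => ?_)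
  obtain ⟨w, rfl⟩ := θA.surjective z
  refine ⟨w, ?_⟩
  have h2 := congr($(ResidueField.residueFieldMap_residueFieldIso f q rfl) w)
  exact (congrArg k h2).trans (DFunLike.congr_fun hk _)

theorem exists_point_hom {C : Type u} [CommRing C] [Algebra A C]
    (h : FlatMor.IsUnivHomeo (Spec.map (CommRingCat.ofHom (algebraMap A C))))
    (hres : HTop.ResidueFieldsIso (Spec.map (CommRingCat.ofHom (algebraMap A C))))
    (p : PrimeSpectrum A) : Nonempty (C →ₐ[A] p.asIdeal.ResidueField) := by
  obtain ⟨q, rfl⟩ := (isUnivHomeo_iff.mp h).2.2 p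
  set f := CommRingCat.ofHom (algebraMap A C)
  let θC := (Scheme.Spec.residueFieldIso (CommRingCat.of C) q).commRingCatIsoToRingEquiv
  let θA := (Scheme.Spec.residueFieldIso (CommRingCat.of A)
    (Spec.map f q)).commRingCatIsoToRingEquiv
  let μ := Ideal.ResidueField.map (PrimeSpectrum.comap (algebraMap A C) q).asIdeal q.asIdeal
    (algebraMap A C) rfl
  have hb : Function.Bijective μ := by
    refine ⟨μ.injective, fun z => ?_⟩
    obtain ⟨w, rfl⟩ := θC.surjective z
    obtain ⟨v, rfl⟩ := ((ConcreteCategory.isIso_iff_bijective _).mp (hres q)).2 w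
    exact ⟨θA v, (congr($(ResidueField.residueFieldMap_residueFieldIso f q rfl) v)).symm⟩
  let e := RingEquiv.ofBijective μ hb
  refine ⟨{ __ := e.symm.toRingHom.comp (algebraMap C q.asIdeal.ResidueField),
            commutes' := fun a => ?_ }⟩
  apply e.injective
  simp only [RingHom.comp_apply, RingEquiv.toRingHom_eq_coe, RingEquiv.coe_toRingHom,
    RingHom.toMonoidHom_eq_coe, OneHom.toFun_eq_coe, MonoidHom.toOneHom_coe, MonoidHom.coe_coe,
    RingEquiv.apply_symm_apply]
  exact (Ideal.ResidueField.map_algebraMap _ q.asIdeal (algebraMap A C) rfl a).symm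

theorem isUnivHomeo_range {C : Type u} [CommRing C] [Algebra A C]
    (h : FlatMor.IsUnivHomeo (Spec.map (CommRingCat.ofHom (algebraMap A C))))
    (f : C →ₐ[A] ∀ p : PrimeSpectrum A, p.asIdeal.ResidueField) :
    FlatMor.IsUnivHomeo (Spec.map (CommRingCat.ofHom (algebraMap A f.range))) := by
  obtain ⟨hint, -, -⟩ := isUnivHomeo_iff.mp h
  refine isUnivHomeo_iff.mpr
    ⟨⟨fun x => ?_⟩, universallyInjective_of_algHom_ext fun K _ φ ψ e => ?_,
      fun p => (exists_point_residue f.range p).imp fun _ h => h.1⟩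
  · obtain ⟨c, rfl⟩ := f.rangeRestrict_surjective x
    exact (Algebra.IsIntegral.isIntegral c).map f.rangeRestrict
  · refine RingHom.cancel_right f.rangeRestrict_surjective |>.mp
      (ringHom_ext_of_univHomeo (φ := φ.comp f.rangeRestrict.toRingHom)
        (ψ := ψ.comp f.rangeRestrict.toRingHom) h ?_)
    refine RingHom.ext fun a => ?_
    have h1 := DFunLike.congr_fun e a
    simp only [RingHom.comp_apply] at h1 ⊢
    rw [show f.rangeRestrict.toRingHom (algebraMap A C a) = algebraMap A f.range a from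
      f.rangeRestrict.commutes a]
    exact h1

theorem isRingSN_sn : HTop.IsRingSN (algebraMap A (sn A)) := by
  refine ⟨⟨isUnivHomeo_sn, residueFieldsIso_subalgebra _ isUnivHomeo_sn⟩, fun C _ ψ hψ hres => ?_⟩
  let := ψ.toAlgebra
  let f : C →ₐ[A] ∀ p : PrimeSpectrum A, p.asIdeal.ResidueField :=
    AlgHom.pi fun p => (exists_point_hom (C := C) hψ hres p).some
  have hle : f.range ≤ sn A := le_sn (isUnivHomeo_range (C := C) hψ f)
  let χ : C →ₐ[A] sn A := (Subalgebra.inclusion hle).comp f.rangeRestrict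
  refine ⟨χ.toRingHom, χ.comp_algebraMap, fun χ' hχ' => RingHom.ext fun c => Subtype.ext ?_⟩
  funext p
  exact DFunLike.congr_fun (ringHom_ext_of_univHomeo (A := A) (C := C)
    (φ := ((Pi.evalRingHom (fun p : PrimeSpectrum A => p.asIdeal.ResidueField) p).comp
      (sn A).val.toRingHom).comp χ')
    (ψ := ((Pi.evalRingHom (fun p : PrimeSpectrum A => p.asIdeal.ResidueField) p).comp
      (sn A).val.toRingHom).comp χ.toRingHom) hψ (RingHom.ext fun a => by
      have h1 := DFunLike.congr_fun hχ' a
      have h2 := χ.commutes a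
      simp only [RingHom.comp_apply] at h1 ⊢
      exact congrArg (fun z : sn A => (z : ∀ p : PrimeSpectrum A, p.asIdeal.ResidueField) p)
        (h1.trans h2.symm))) c

theorem bijective_of_isSeminormalRing (hA : HTop.IsSeminormalRing A) {C : Type u} [CommRing C]
    [_root_.IsReduced C] (ψ : A →+* C) (hψ : FlatMor.IsUnivHomeo (Spec.map (CommRingCat.ofHom ψ)))
    (hres : HTop.ResidueFieldsIso (Spec.map (CommRingCat.ofHom ψ))) : Function.Bijective ψ := by
  have := Seminormal.Basic.isReduced_of_isSeminormalRing hA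
  have hinj : Function.Injective ψ := by
    let := ψ.toAlgebra
    rw [injective_iff_map_eq_zero]
    intro a ha
    refine IsNilpotent.eq_zero (nilpotent_iff_mem_prime.mpr fun P hP => ?_)
    obtain ⟨q, hq⟩ := (isUnivHomeo_iff (A := A) (C := C)).mp hψ |>.2.2 ⟨P, hP⟩
    have : a ∈ (PrimeSpectrum.comap (algebraMap A C) q).asIdeal :=
      show ψ a ∈ q.asIdeal by rw [ha]; exact zero_mem _
    rwa [hq] at this
  refine ⟨hinj, ?_⟩
  by_contra hns
  obtain ⟨b, hb, ⟨x, hx⟩, y, hy⟩ := Groth.Agent.S7398.result ψ hinj hns hψ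
    fun z => ((ConcreteCategory.isIso_iff_bijective _).mp (hres z)).2
  obtain ⟨a, ⟨ha, ha'⟩, -⟩ := hA x y (hinj (by rw [map_pow, map_pow, hx, hy]; ring))
  exact hb ⟨a, Seminormal.Basic.eq_of_sq_of_cube (by rw [← hx, ha, map_pow])
    (by rw [← hy, ha', map_pow])⟩

theorem isSeminormalRing_sn : HTop.IsSeminormalRing (sn A) := by
  have : _root_.IsReduced (sn A) := isReduced_of_injective (sn A).val Subtype.val_injective
  have hint : ∀ z : sn A, IsIntegral A (z : ∀ p : PrimeSpectrum A, p.asIdeal.ResidueField) :=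
    fun z => ((isUnivHomeo_iff.mp (isUnivHomeo_sn (A := A))).1.isIntegral z).map (sn A).val
  refine Seminormal.Basic.isSeminormalRing_of_exists fun x y hxy => ?_
  classical
  have hxy' : ∀ i, x.1 i ^ 3 = y.1 i ^ 2 := fun i => congrArg (fun z : sn A => z.1 i) hxy
  let a : ∀ p : PrimeSpectrum A, p.asIdeal.ResidueField := fun i => y.1 i / x.1 i
  have ha2 : a ^ 2 = x := funext fun i => by
    show (y.1 i / x.1 i) ^ 2 = x.1 i
    by_cases h0 : x.1 i = 0
    · simp [h0]
    · rw [div_pow, ← hxy' i]
      field_simp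
  have ha3 : a ^ 3 = y := funext fun i => by
    show (y.1 i / x.1 i) ^ 3 = y.1 i
    by_cases h0 : x.1 i = 0
    · have h := hxy' i
      rw [h0, zero_pow (by norm_num)] at h
      simp [h0, eq_zero_of_pow_eq_zero h.symm]
    · rw [div_pow, hxy' i]
      field_simp
  let D : Subalgebra A (∀ p : PrimeSpectrum A, p.asIdeal.ResidueField) :=
    sn A ⊔ Algebra.adjoin A {a}
  have hle : sn A ≤ D := le_sup_left
  have haD : a ∈ D :=
    (le_sup_right : Algebra.adjoin A {a} ≤ D) (Algebra.subset_adjoin (Set.mem_singleton a))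
  have hD : FlatMor.IsUnivHomeo (Spec.map (CommRingCat.ofHom (algebraMap A D))) := by
    refine isUnivHomeo_iff.mpr ⟨?_, universallyInjective_of_algHom_ext fun K _ φ ψ e => ?_,
      fun p => (exists_point_residue D p).imp fun _ h => h.1⟩
    · have h1 : sn A ≤ integralClosure A _ := fun z hz => hint ⟨z, hz⟩
      have h2 : D ≤ integralClosure A _ := sup_le h1 (Algebra.adjoin_le
        (Set.singleton_subset_iff.mpr (IsIntegral.of_pow (by norm_num : 0 < 2) (ha2 ▸ hint x))))
      exact ⟨fun z => (isIntegral_algHom_iff D.val Subtype.val_injective).mp (h2 z.2)⟩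
    · have e2 : φ.comp (Subalgebra.inclusion hle).toRingHom =
          ψ.comp (Subalgebra.inclusion hle).toRingHom := by
        refine ringHom_ext_of_univHomeo isUnivHomeo_sn (RingHom.ext fun r => ?_)
        exact DFunLike.congr_fun e r
      let E : Subalgebra A D :=
        { __ := RingHom.eqLocus φ ψ
          algebraMap_mem' := fun r => DFunLike.congr_fun e r }
      have hDE : D ≤ E.map D.val := by
        refine sup_le (fun z hz => ⟨⟨z, hle hz⟩, (DFunLike.congr_fun e2 (⟨z, hz⟩ : sn A) :
          φ ⟨z, hle hz⟩ = ψ ⟨z, hle hz⟩), rfl⟩) ?_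
        refine Algebra.adjoin_le (Set.singleton_subset_iff.mpr ⟨⟨a, haD⟩, ?_, rfl⟩)
        have h2 : (⟨a, haD⟩ : D) ^ 2 = Subalgebra.inclusion hle x := Subtype.ext ha2
        have h3 : (⟨a, haD⟩ : D) ^ 3 = Subalgebra.inclusion hle y := Subtype.ext ha3
        show φ ⟨a, haD⟩ = ψ ⟨a, haD⟩
        refine Seminormal.Basic.eq_of_sq_of_cube ?_ ?_
        · rw [← map_pow, ← map_pow, h2]; exact DFunLike.congr_fun e2 x
        · rw [← map_pow, ← map_pow, h3]; exact DFunLike.congr_fun e2 y
      refine RingHom.ext fun z => ?_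
      obtain ⟨w, hw, hwz⟩ := hDE z.2
      rwa [show w = z from Subtype.ext hwz] at hw
  exact ⟨⟨a, le_sn hD haD⟩, Subtype.ext ha2.symm, Subtype.ext ha3.symm⟩

end Groth.Agent.Lib.WeakNormal.SnChar
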