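import Groth.Agent.Lib.WeakNormal.SnScheme
import Groth.Prelude.Def_Pi1
import Mathlib.RingTheory.LocalProperties.Reduced
import Mathlib.AlgebraicGeometry.Morphisms.SchemeTheoreticallyDominant
import Mathlib.AlgebraicGeometry.Noetherian

/-!
Normal schemes are seminormal; the normalization factors through the seminormalization.
-/

universe u

open CategoryTheory CategoryTheory.Limits AlgebraicGeometry

namespace Groth.Agent.Lib.WeakNormal.SnNormal

theorem isSeminormalRing_of_atPrime {A : Type u} [CommRing A]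
    (h : ∀ (P : Ideal A) [P.IsPrime], HTop.IsSeminormalRing (Localization.AtPrime P)) :
    HTop.IsSeminormalRing A := by
  have : _root_.IsReduced A := isReduced_ofLocalizationMaximal A fun J _ =>
    Seminormal.Basic.isReduced_of_isSeminormalRing (h J)
  refine Seminormal.Basic.isSeminormalRing_of_exists fun x y hxy => ?_
  have hloc : ∀ P : PrimeSpectrum A, ∃ f : A, f ∉ P.asIdeal ∧ ∃ a : Localization.Away f,
      algebraMap A _ x = a ^ 2 ∧ algebraMap A _ y = a ^ 3 := by
    intro P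
    obtain ⟨a, ⟨ha, ha'⟩, -⟩ := h P.asIdeal (algebraMap A _ x) (algebraMap A _ y)
      (by rw [← map_pow, ← map_pow, hxy])
    obtain ⟨⟨u, s⟩, hu⟩ := IsLocalization.surj P.asIdeal.primeCompl a
    simp only at hu
    obtain ⟨t₁, ht₁⟩ := IsLocalization.exists_of_eq (M := P.asIdeal.primeCompl)
      (S := Localization.AtPrime P.asIdeal) (x := x * (s : A) ^ 2) (y := u ^ 2)
      (by rw [map_mul, map_pow, map_pow, ha, ← mul_pow, hu])
    obtain ⟨t₂, ht₂⟩ := IsLocalization.exists_of_eq (M := P.asIdeal.primeCompl)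
      (S := Localization.AtPrime P.asIdeal) (x := y * (s : A) ^ 3) (y := u ^ 3)
      (by rw [map_mul, map_pow, map_pow, ha', ← mul_pow, hu])
    set f := (s : A) * ((t₁ : A) * (t₂ : A))
    have hf : f ∈ P.asIdeal.primeCompl := mul_mem s.2 (mul_mem t₁.2 t₂.2)
    refine ⟨f, hf, ?_⟩
    have hU : IsUnit (algebraMap A (Localization.Away f) f) :=
      IsLocalization.Away.algebraMap_isUnit f
    rw [map_mul, map_mul, IsUnit.mul_iff, IsUnit.mul_iff] at hU
    obtain ⟨hs, hu₁, hu₂⟩ := hU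
    refine ⟨algebraMap A _ u * ↑hs.unit⁻¹, ?_, ?_⟩
    · have e := congrArg (algebraMap A (Localization.Away f)) ht₁
      simp only [map_mul, map_pow] at e
      have e' := hu₁.mul_left_cancel e
      rw [mul_pow, ← e', mul_assoc, ← mul_pow, IsUnit.mul_val_inv, one_pow, mul_one]
    · have e := congrArg (algebraMap A (Localization.Away f)) ht₂
      simp only [map_mul, map_pow] at e
      have e' := hu₂.mul_left_cancel e
      rw [mul_pow, ← e', mul_assoc, ← mul_pow, IsUnit.mul_val_inv, one_pow, mul_one]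
  choose f hf hex using hloc
  have hspan : Ideal.span (Set.range f) = ⊤ := by
    by_contra hne
    obtain ⟨m, hm, hle⟩ := Ideal.exists_le_maximal _ hne
    exact hf ⟨m, hm.isPrime⟩ (hle (Ideal.subset_span ⟨_, rfl⟩))
  obtain ⟨a, ha⟩ := Seminormal.Basic.exists_glue f (fun P => Localization.Away (f P)) hspan
    (fun C _ g z => g x = z ^ 2 ∧ g y = z ^ 3)
    (fun C D _ _ g k z hz => ⟨by simp [hz.1], by simp [hz.2]⟩)
    (fun C _ _ g z w hz hw =>
      Seminormal.Basic.eq_of_sq_of_cube (hz.1.symm.trans hw.1) (hz.2.symm.trans hw.2)) hex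
  exact ⟨a,
    Seminormal.Basic.eq_of_forall f _ hspan fun P => (ha P).1.trans (map_pow _ _ _).symm,
    Seminormal.Basic.eq_of_forall f _ hspan fun P => (ha P).2.trans (map_pow _ _ _).symm⟩

theorem isSeminormal_of_isNormalScheme {X : Scheme.{u}} (hX : Pi1.IsNormalScheme X) :
    HTop.IsSeminormal X := by
  refine (Groth.Agent.S7420.result X).1.mpr fun U => isSeminormalRing_of_atPrime fun P _ => ?_
  have hx : U.2.fromSpec ⟨P, inferInstance⟩ ∈ U.1 := U.2.range_fromSpec.le ⟨_, rfl⟩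
  obtain ⟨hd, hc⟩ := hX (U.2.fromSpec ⟨P, inferInstance⟩)
  let := TopCat.Presheaf.algebra_section_stalk X.presheaf
    (⟨U.2.fromSpec ⟨P, inferInstance⟩, hx⟩ : U.1)
  have : IsLocalization P.primeCompl (X.presheaf.stalk (U.2.fromSpec ⟨P, inferInstance⟩)) :=
    U.2.isLocalization_stalk' ⟨P, inferInstance⟩ hx
  let e := IsLocalization.algEquiv P.primeCompl
    (X.presheaf.stalk (U.2.fromSpec ⟨P, inferInstance⟩)) (Localization.AtPrime P)
  have : IsDomain (Localization.AtPrime P) := e.toRingEquiv.toMulEquiv.symm.isDomain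
  have : IsIntegrallyClosed (Localization.AtPrime P) := IsIntegrallyClosed.of_equiv e.toRingEquiv
  exact Seminormal.Basic.isSeminormalRing_of_isIntegrallyClosed

theorem exists_factor {S Sn X' : Scheme.{u}} (π : Sn ⟶ S) (hn : Pi1.IsNormalScheme Sn)
    (ν : X' ⟶ S) (hν : HTop.IsSeminormalization ν) : ∃ g : Sn ⟶ X', g ≫ ν = π := by
  have hid := SnScheme.isSeminormalization_of_isSeminormal (𝟙 Sn) (UnivHomeo.Basic.of_isIso _)
    (SnScheme.residueFieldsIso_of_isOpenImmersion _) (isSeminormal_of_isNormalScheme hn)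
  obtain ⟨s, hs, -⟩ := hid.2 _ (pullback.fst π ν) (MorphismProperty.pullback_fst _ _ hν.1.1)
    (SnScheme.residueFieldsIso_pullback_fst hν.1.1 hν.1.2)
  exact ⟨s ≫ pullback.snd π ν,
    by rw [Category.assoc, ← pullback.condition, reassoc_of% hs]⟩

theorem dominant_and_finite {S Sn X' : Scheme.{u}} [IsNoetherian S] [AlgebraicGeometry.IsReduced S]
    (π : Sn ⟶ S) [IsIntegralHom π]
    (hbir : ∃ U : S.Opens, Dense (U : Set S) ∧ Dense ((π ⁻¹ᵁ U : Sn.Opens) : Set Sn) ∧
      IsIso (π ∣_ U))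
    (ν : X' ⟶ S) (hν : HTop.IsSeminormalization ν) (hX' : HTop.IsSeminormal X') (g : Sn ⟶ X')
    (hg : g ≫ ν = π) :
    (IsSchemeTheoreticallyDominant ν ∧ IsSchemeTheoreticallyDominant g) ∧
      (IsFinite π → IsFinite ν ∧ IsFinite g) := by
  have := Seminormal.Basic.isReduced_of_isSeminormal hX'
  have hνs := UnivHomeo.Basic.surjective hν.1.1
  have := UnivHomeo.Basic.isAffineHom hν.1.1
  have := UnivHomeo.Basic.universallyInjective hν.1.1
  have hπs : Surjective π := ⟨fun s => by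
    obtain ⟨U, hU, -, hiso⟩ := hbir
    have hsub : (U : Set S) ⊆ Set.range π := fun x hx => by
      obtain ⟨y, hy⟩ := (π ∣_ U).surjective ⟨x, hx⟩
      exact ⟨(π ⁻¹ᵁ U).ι y, by
        rw [← Scheme.Hom.comp_apply, ← morphismRestrict_ι, Scheme.Hom.comp_apply, hy]; rfl⟩
    have := closure_minimal hsub π.isClosedMap.isClosed_range
    rw [hU.closure_eq] at this
    exact this (Set.mem_univ s)⟩
  have hgs : Surjective g := ⟨fun x => by
    obtain ⟨y, hy⟩ := hπs.surj (ν x)
    exact ⟨y, ν.injective (by rw [← Scheme.Hom.comp_apply, hg, hy])⟩⟩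
  have hd : IsSchemeTheoreticallyDominant ν := .of_isDominant ν
  have hdg : IsSchemeTheoreticallyDominant g := .of_isDominant g
  refine ⟨⟨hd, hdg⟩, fun hfin => ?_⟩
  have hgf : IsFinite g := by
    have : IsFinite (g ≫ ν) := hg.symm ▸ hfin
    exact IsFinite.of_comp g ν
  refine ⟨⟨fun U hU => ?_⟩, hgf⟩
  have : IsNoetherianRing Γ(S, U) := IsLocallyNoetherian.component_noetherian ⟨U, hU⟩
  subst hg
  have h1 := (g ≫ ν).finite_app U hU
  rw [Scheme.Hom.comp_app] at h1
  let := (ν.app U).hom.toAlgebra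
  let := (ν.app U ≫ g.app (ν ⁻¹ᵁ U)).hom.toAlgebra
  have : Module.Finite Γ(S, U) Γ(Sn, g ⁻¹ᵁ ν ⁻¹ᵁ U) := h1
  let f : Γ(X', ν ⁻¹ᵁ U) →ₐ[Γ(S, U)] Γ(Sn, g ⁻¹ᵁ ν ⁻¹ᵁ U) :=
    { __ := (g.app (ν ⁻¹ᵁ U)).hom, commutes' := fun _ => rfl }
  exact Module.Finite.of_injective f.toLinearMap (g.app_injective _)

end Groth.Agent.Lib.WeakNormal.SnNormal
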