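import Groth.Agent.Lib.WeakNormal.SnChar
import Groth.Agent.Lib.WeakNormal.AbsScheme

/-!
Seminormal schemes and universal homeomorphisms with trivial residue field extensions.
-/

universe u

open CategoryTheory CategoryTheory.Limits AlgebraicGeometry

namespace Groth.Agent.Lib.WeakNormal.SnScheme

variable {X Y Z : Scheme.{u}}

theorem residueFieldsIso_iff (π : Y ⟶ X) :
    HTop.ResidueFieldsIso π ↔ ∀ y, Function.Surjective (π.residueFieldMap y) :=
  ⟨fun h y => ((ConcreteCategory.isIso_iff_bijective _).mp (h y)).2,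
    fun h y => (ConcreteCategory.isIso_iff_bijective _).mpr
      ⟨(π.residueFieldMap y).hom.injective, h y⟩⟩

theorem residueFieldsIso_of_isOpenImmersion (j : Y ⟶ X) [IsOpenImmersion j] :
    HTop.ResidueFieldsIso j := by
  refine (residueFieldsIso_iff j).mpr fun y z => ?_
  obtain ⟨w, rfl⟩ := IsLocalRing.residue_surjective z
  obtain ⟨v, rfl⟩ := (ConcreteCategory.bijective_of_isIso (j.stalkMap y)).2 w
  exact ⟨X.residue (j y) v, rfl⟩

theorem residueFieldsIso_of_isClosedImmersion (j : Y ⟶ X) [IsClosedImmersion j] :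
    HTop.ResidueFieldsIso j := by
  refine (residueFieldsIso_iff j).mpr fun y z => ?_
  obtain ⟨w, rfl⟩ := IsLocalRing.residue_surjective z
  obtain ⟨v, rfl⟩ := j.stalkMap_surjective y w
  exact ⟨X.residue (j y) v, rfl⟩

theorem residueFieldsIso_comp {f : Y ⟶ X} {g : X ⟶ Z} (hf : HTop.ResidueFieldsIso f)
    (hg : HTop.ResidueFieldsIso g) : HTop.ResidueFieldsIso (f ≫ g) := fun y => by
  have := hf y
  have := hg (f y)
  rw [Scheme.residueFieldMap_comp]
  exact IsIso.comp_isIso' (hg (f y)) (hf y)

theorem residueFieldsIso_of_comp_right {f : Y ⟶ X} {g : X ⟶ Z}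
    (hfg : HTop.ResidueFieldsIso (f ≫ g)) (hg : HTop.ResidueFieldsIso g) :
    HTop.ResidueFieldsIso f := fun y => by
  have := hg (f y)
  have h := hfg y
  rw [Scheme.residueFieldMap_comp] at h
  have hh : IsIso (g.residueFieldMap (f y) ≫ f.residueFieldMap y) := h
  exact IsIso.of_isIso_comp_left (g.residueFieldMap (f y)) (f.residueFieldMap y)

theorem residueFieldsIso_pullback_fst {ν : Y ⟶ X} {π : Z ⟶ X} (hπ : FlatMor.IsUnivHomeo π)
    (hres : HTop.ResidueFieldsIso π) : HTop.ResidueFieldsIso (pullback.fst ν π) := by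
  have hu : UniversallyInjective (pullback.fst ν π) :=
    UnivHomeo.Basic.universallyInjective (MorphismProperty.pullback_fst _ _ hπ)
  intro q
  set w := pullback.fst ν π q
  obtain ⟨z, hz⟩ := (UnivHomeo.Basic.surjective hπ).surj (ν w)
  have := hres z
  let e : X.residueField (π z) ≅ X.residueField (ν w) := X.residueFieldCongr hz
  let r : Spec (Y.residueField w) ⟶ Z :=
    Spec.map (inv (π.residueFieldMap z) ≫ e.hom ≫ ν.residueFieldMap w) ≫ Z.fromSpecResidueField z
  have hr : Y.fromSpecResidueField w ≫ ν = r ≫ π := by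
    simp only [r, Category.assoc, e, ← Scheme.Hom.SpecMap_residueFieldMap_fromSpecResidueField]
    rw [← Spec.map_comp_assoc, ← Category.assoc (π.residueFieldMap z), IsIso.hom_inv_id,
      Category.id_comp, Spec.map_comp_assoc, Scheme.residueFieldCongr_fromSpecResidueField]
  let t := pullback.lift (Y.fromSpecResidueField w) r hr
  obtain ⟨⟨q', φ⟩, ht⟩ :=
    (Scheme.SpecToEquivOfField (Y.residueField w) (pullback ν π)).symm.surjective t
  change Spec.map φ ≫ (pullback ν π).fromSpecResidueField q' = t at ht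
  have ht' : (Spec.map φ ≫ (pullback ν π).fromSpecResidueField q') ≫ pullback.fst ν π =
      Y.fromSpecResidueField w := by rw [ht, pullback.lift_fst]
  obtain rfl : q' = q := (pullback.fst ν π).injective (by
    have h1 := congrArg (fun k : Spec (Y.residueField w) ⟶ Y =>
      k (IsLocalRing.closedPoint (Y.residueField w))) ht'
    simpa [Scheme.fromSpecResidueField_apply] using h1)
  rw [Category.assoc, ← Scheme.Hom.SpecMap_residueFieldMap_fromSpecResidueField, ← Category.assoc,
    ← Spec.map_comp] at ht'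
  have h3 := Spec.map_inj.mp ((cancel_mono (Y.fromSpecResidueField w)).mp (ht'.trans
    ((congrArg (fun k => k ≫ Y.fromSpecResidueField w) (Spec.map_id _)).trans
      (Category.id_comp _)).symm))
  exact (ConcreteCategory.isIso_iff_bijective _).mpr
    ⟨((pullback.fst ν π).residueFieldMap q').hom.injective,
      fun z' => ⟨φ z', φ.hom.injective (congr($h3 (φ z')))⟩⟩

theorem residueFieldsIso_morphismRestrict {π : Y ⟶ X} (hres : HTop.ResidueFieldsIso π)
    (U : X.Opens) : HTop.ResidueFieldsIso (π ∣_ U) := by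
  refine residueFieldsIso_of_comp_right (g := U.ι) ?_ (residueFieldsIso_of_isOpenImmersion _)
  rw [morphismRestrict_ι]
  exact residueFieldsIso_comp (residueFieldsIso_of_isOpenImmersion _) hres

/-- A reduced scheme universally homeomorphic to a seminormal one with the same residue fields is
isomorphic to it. -/
theorem isIso_of_isSeminormal (hX : HTop.IsSeminormal X) (π : Y ⟶ X) (hπ : FlatMor.IsUnivHomeo π)
    (hres : HTop.ResidueFieldsIso π) [AlgebraicGeometry.IsReduced Y] : IsIso π := by
  have := UnivHomeo.Basic.isAffineHom hπ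
  change MorphismProperty.isomorphisms Scheme π
  refine HasAffineProperty.of_iSup_eq_top (P := MorphismProperty.isomorphisms Scheme)
    (fun U : X.affineOpens => U) (iSup_affineOpens_eq_top X) fun U => ?_
  have hV : IsAffineOpen (π ⁻¹ᵁ U.1) := U.2.preimage π
  have : IsAffine (π ⁻¹ᵁ U.1).toScheme := hV
  have : IsAffine U.1.toScheme := U.2
  have hu : FlatMor.IsUnivHomeo (π ∣_ U.1) :=
    MorphismProperty.of_isPullback (isPullback_morphismRestrict π U.1).flip hπ
  refine ⟨inferInstance, ?_⟩
  have hA : HTop.IsSeminormalRing Γ(U.1.toScheme, ⊤) := by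
    have h := (Groth.Agent.S7420.result X).1.mp hX U
    let e := U.1.topIso.commRingCatIsoToRingEquiv
    intro x y hxy
    obtain ⟨a, ⟨ha, ha'⟩, hu⟩ := h (e x) (e y) (by rw [← map_pow, hxy, map_pow])
    refine ⟨e.symm a, ⟨by rw [← map_pow, ← ha, e.symm_apply_apply],
      by rw [← map_pow, ← ha', e.symm_apply_apply]⟩, fun b hb => ?_⟩
    rw [← hu (e b) ⟨by rw [← map_pow, ← hb.1], by rw [← map_pow, ← hb.2]⟩, e.symm_apply_apply]
  have hsp : FlatMor.IsUnivHomeo (Spec.map (π ∣_ U.1).appTop) :=
    ((FlatMor.IsUnivHomeo.{u}).arrow_mk_iso_iff (arrowIsoSpecΓOfIsAffine (π ∣_ U.1))).mp hu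
  have hres' : HTop.ResidueFieldsIso (Spec.map (π ∣_ U.1).appTop) := by
    have e : Spec.map (π ∣_ U.1).appTop =
        (π ⁻¹ᵁ U.1).toScheme.isoSpec.inv ≫ (π ∣_ U.1) ≫ U.1.toScheme.isoSpec.hom := by
      rw [Iso.eq_inv_comp]
      exact (Scheme.toSpecΓ_naturality _).symm
    rw [e]
    exact residueFieldsIso_comp (residueFieldsIso_of_isOpenImmersion _)
      (residueFieldsIso_comp (residueFieldsIso_morphismRestrict hres U.1)
        (residueFieldsIso_of_isOpenImmersion _))
  exact (ConcreteCategory.isIso_iff_bijective _).mpr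
    (SnChar.bijective_of_isSeminormalRing hA (π ∣_ U.1).appTop.hom hsp hres')

/-- A seminormal scheme universally homeomorphic to `X` with the same residue fields is the
seminormalization of `X`. -/
theorem isSeminormalization_of_isSeminormal {W : Scheme.{u}} (ν : W ⟶ X)
    (hν : FlatMor.IsUnivHomeo ν) (hres : HTop.ResidueFieldsIso ν) (hW : HTop.IsSeminormal W) :
    HTop.IsSeminormalization ν := by
  have := Seminormal.Basic.isReduced_of_isSeminormal hW
  refine ⟨⟨hν, hres⟩, fun Z π hπ hresπ => ?_⟩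
  let Q := pullback ν π
  have h1 : FlatMor.IsUnivHomeo (pullback.fst ν π) := MorphismProperty.pullback_fst _ _ hπ
  have hq := UnivHomeo.Basic.comp (AbsScheme.isUnivHomeo_reduced Q) h1
  have := isIso_of_isSeminormal hW _ hq (residueFieldsIso_comp
    (residueFieldsIso_of_isClosedImmersion _) (residueFieldsIso_pullback_fst hπ hresπ))
  refine ⟨inv (Q.nilradical.subschemeι ≫ pullback.fst ν π) ≫ Q.nilradical.subschemeι ≫
    pullback.snd ν π, ?_, fun h' hh' => AbsScheme.hom_ext_of_isReduced hπ ?_⟩
  · simp only [Category.assoc, ← pullback.condition]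
    exact (congrArg _ (Category.assoc _ _ _).symm).trans (IsIso.inv_hom_id_assoc _ _)
  · rw [hh']
    simp only [Category.assoc, ← pullback.condition]
    exact ((congrArg _ (Category.assoc _ _ _).symm).trans (IsIso.inv_hom_id_assoc _ _)).symm

theorem isSeminormal_of_isOpenImmersion {W : Scheme.{u}} (j : W ⟶ X) [IsOpenImmersion j]
    (hX : HTop.IsSeminormal X) : HTop.IsSeminormal W := by
  refine (Groth.Agent.S7420.result W).1.mpr fun U => ?_
  have h := (Groth.Agent.S7420.result X).1.mp hX ⟨j ''ᵁ U.1, U.2.image_of_isOpenImmersion j⟩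
  let e := (j.appIso U.1).commRingCatIsoToRingEquiv
  intro x y hxy
  obtain ⟨a, ⟨ha, ha'⟩, hu⟩ := h (e.symm x) (e.symm y) (by rw [← map_pow, hxy, map_pow])
  refine ⟨e a, ⟨by rw [← map_pow, ← ha, e.apply_symm_apply],
    by rw [← map_pow, ← ha', e.apply_symm_apply]⟩, fun b hb => ?_⟩
  rw [← hu (e.symm b) ⟨by rw [← map_pow, ← hb.1], by rw [← map_pow, ← hb.2]⟩, e.apply_symm_apply]

theorem isIso_of_isSeminormalization {X' : Scheme.{u}} {ν : X' ⟶ X}
    (hν : HTop.IsSeminormalization ν) (hX : HTop.IsSeminormal X) : IsIso ν := by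
  have hid := isSeminormalization_of_isSeminormal (𝟙 X) (UnivHomeo.Basic.of_isIso _)
    (residueFieldsIso_of_isOpenImmersion _) hX
  obtain ⟨g, hg, -⟩ := hid.2 _ ν hν.1.1 hν.1.2
  exact ⟨g, (hν.2 _ ν hν.1.1 hν.1.2).unique (by rw [Category.assoc, hg, Category.comp_id])
    (Category.id_comp _), hg⟩

end Groth.Agent.Lib.WeakNormal.SnScheme
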